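import Cfsg.Agent.H644.KGV.Defs
import Mathlib
import Cfsg.Agent.H644.KGV.Goals
import Cfsg.Agent.S0148
import Cfsg.Agent.H719.KGV.Star_mg
set_option linter.all false

-- part: H295/KGV/OddNS
section
/-!
# Hasse-Davenport product formula for an odd prime, non-split form
-/

set_option autoImplicit false

namespace Cfsg.Agent.H295.KGV

open Cfsg Finset Cfsg.Agent.H644.KGV

/-! ### Congruences modulo a prime -/

/-- Fixed points of a map of prime period, on a stable subset. -/
theorem card_modEq {α : Type*} [Fintype α] [DecidableEq α] (φ : α → α) (l : ℕ) [Fact l.Prime]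
    (hφ : ∀ y, φ^[l] y = y) (P : α → Prop) [DecidablePred P] (hP : ∀ y, P y → P (φ y)) :
    #{y | P y} ≡ #{y | φ y = y ∧ P y} [MOD l] := by
  classical
  let f : Function.End {y // P y} := Subtype.map φ hP
  have hf : f ^ l ^ 1 = 1 := by
    have hval : ∀ (n : ℕ) (y : {y // P y}), (((f ^ n : Function.End _) y : {y // P y}) : α)
        = φ^[n] y := by
      intro n
      induction n with
      | zero => intro y; rfl
      | succ n ih =>
        intro y
        rw [pow_succ, Function.iterate_succ_apply]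
        exact ih (f y)
    funext y
    apply Subtype.ext
    rw [pow_one, hval, hφ]
    rfl
  have h := Equiv.Perm.card_fixedPoints_modEq (α := {y // P y}) hf
  have h1 : Fintype.card {y // P y} = #{y | P y} := Fintype.card_subtype P
  have h2 : Fintype.card f.fixedPoints = #{y | φ y = y ∧ P y} := by
    rw [← Fintype.card_subtype]
    refine Fintype.card_congr ⟨fun y => ⟨y.1.1, ?_, y.1.2⟩, fun y => ⟨⟨y.1, y.2.2⟩, ?_⟩, ?_, ?_⟩
    · exact congrArg Subtype.val y.2
    · exact Subtype.ext y.2.1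
    · intro y; rfl
    · intro y; rfl
  rw [h1, h2] at h
  exact h

/-- The sum of an invariant function is congruent to the sum over the fixed points. -/
theorem sum_modEq {α : Type*} [Fintype α] [DecidableEq α] (φ : α → α) (l : ℕ) [Fact l.Prime]
    (hφ : ∀ y, φ^[l] y = y) (F : α → ℂ) (hF : ∀ y, F (φ y) = F y)
    (hi : ∀ y, IsIntegral ℤ (F y)) :
    ∃ w : ℂ, IsIntegral ℤ w ∧ ∑ y, F y = (∑ y with φ y = y, F y) + l * w := by
  classical
  have key : ∀ v : ℂ, ∃ n : ℤ, (#{y | F y = v} : ℤ) = (#{y | φ y = y ∧ F y = v} : ℤ) + l * n := by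
    intro v
    have h := card_modEq φ l hφ (fun y => F y = v) (fun y hy => (hF y).trans hy)
    have h2 := (Nat.modEq_iff_dvd.1 h.symm)
    obtain ⟨n, hn⟩ := h2
    exact ⟨n, by linarith⟩
  choose n hn using key
  refine ⟨∑ v ∈ univ.image F, (n v : ℂ) * v, ?_, ?_⟩
  · refine IsIntegral.sum _ fun v hv => ?_
    obtain ⟨y, -, rfl⟩ := Finset.mem_image.1 hv
    exact (isIntegral_algebraMap (R := ℤ) (A := ℂ) (x := n (F y))).mul (hi y)
  · have h1 : ∑ y, F y = ∑ v ∈ univ.image F, (#{y | F y = v} : ℂ) * v := by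
      rw [← Finset.sum_fiberwise_of_maps_to (s := univ) (t := univ.image F) (g := F)
        (fun y _ => Finset.mem_image_of_mem F (Finset.mem_univ y))]
      refine Finset.sum_congr rfl fun v _ => ?_
      rw [Finset.sum_congr rfl (fun y hy => (Finset.mem_filter.1 hy).2), Finset.sum_const,
        nsmul_eq_mul]
    have h2 : ∑ y with φ y = y, F y = ∑ v ∈ univ.image F, (#{y | φ y = y ∧ F y = v} : ℂ) * v := by
      rw [← Finset.sum_fiberwise_of_maps_to (s := univ.filter fun y => φ y = y)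
        (t := univ.image F) (g := F) (fun y _ => Finset.mem_image_of_mem F (Finset.mem_univ y))]
      refine Finset.sum_congr rfl fun v _ => ?_
      rw [Finset.sum_congr rfl (fun y hy => (Finset.mem_filter.1 hy).2), Finset.sum_const,
        nsmul_eq_mul, Finset.filter_filter]
    rw [h1, h2, Finset.mul_sum, ← Finset.sum_add_distrib]
    refine Finset.sum_congr rfl fun v _ => ?_
    have h3 : ((#{y | F y = v} : ℤ) : ℂ) = ((#{y | φ y = y ∧ F y = v} : ℤ) + l * n v : ℤ) := by
      rw [hn v]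
    push_cast at h3
    rw [h3]
    ring

theorem not_isIntegral_inv {l : ℕ} (hl : 1 < l) {w : ℂ} (hw : IsIntegral ℤ w) :
    (l : ℂ) * w ≠ 1 := by
  intro h
  have hl0 : (l : ℂ) ≠ 0 := by
    have : l ≠ 0 := by omega
    exact_mod_cast this
  have h1 : w = algebraMap ℚ ℂ (1 / l) := by
    rw [eq_comm]
    simp only [one_div, map_inv₀, map_natCast]
    rw [inv_eq_of_mul_eq_one_right h]
  rw [h1, isIntegral_algebraMap_iff (algebraMap ℚ ℂ).injective] at hw
  obtain ⟨y, hy⟩ := IsIntegrallyClosed.isIntegral_iff.1 hw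
  have hl0' : (l : ℚ) ≠ 0 := by
    have : l ≠ 0 := by omega
    exact_mod_cast this
  have h2 : (l : ℚ) * y = 1 := by
    have : (y : ℚ) = 1 / l := hy
    rw [this]
    field_simp
  have h3 : (l : ℤ) * y = 1 := by exact_mod_cast h2
  have h4 : (l : ℤ) ∣ 1 := ⟨y, h3.symm⟩
  have h5 := Int.le_of_dvd one_pos h4
  omega

/-- A root of unity of odd prime order is not congruent to `1` modulo the prime. -/
theorem eq_one_of_modEq {l : ℕ} (hl : l.Prime) (hl2 : l ≠ 2) {u w : ℂ} (hu : u ^ l = 1)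
    (hw : IsIntegral ℤ w) (h : u - 1 = l * w) : u = 1 := by
  by_contra hne
  have hprim : IsPrimitiveRoot u l := by
    have := Fact.mk hl
    have := orderOf_eq_prime hu hne
    exact this ▸ IsPrimitiveRoot.orderOf u
  have hui : IsIntegral ℤ u := by
    refine IsIntegral.of_pow hl.pos ?_
    rw [hu]
    exact isIntegral_one
  have hk : ∀ k : ℕ, ∃ z : ℂ, IsIntegral ℤ z ∧ 1 - u ^ k = l * z := by
    intro k
    refine ⟨-(∑ i ∈ range k, u ^ i) * w, ?_, ?_⟩
    · exact (IsIntegral.sum _ fun i _ => hui.pow i).neg.mul hw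
    · have := geom_sum_mul u k
      have h2 : u ^ k - 1 = (∑ i ∈ range k, u ^ i) * (l * w) := by rw [← h, this]
      linear_combination -h2
  choose z hz hzu using hk
  obtain ⟨m, rfl⟩ : ∃ m, l = m + 3 := by
    have := hl.two_le
    exact ⟨l - 3, by omega⟩
  have hp := IsPrimitiveRoot.prod_one_sub_pow_eq_order (n := m + 2) hprim
  rw [Finset.prod_congr rfl (fun k _ => hzu (k + 1)), Finset.prod_mul_distrib,
    Finset.prod_const, Finset.card_range] at hp
  set Z := ∏ k ∈ range (m + 2), z (k + 1) with hZ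
  have hZi : IsIntegral ℤ Z := IsIntegral.prod _ fun k _ => hz _
  have h0 : ((m + 3 : ℕ) : ℂ) ≠ 0 := by exact_mod_cast (by omega : m + 3 ≠ 0)
  have hp2 : ((m + 3 : ℕ) : ℂ) * (((m + 3 : ℕ) : ℂ) ^ m * Z) = 1 := by
    have h3 : ((m + 3 : ℕ) : ℂ) * (((m + 3 : ℕ) : ℂ) * (((m + 3 : ℕ) : ℂ) ^ m * Z)) =
        ((m + 3 : ℕ) : ℂ) * 1 := by
      have : ((m + 3 : ℕ) : ℂ) = ((m + 2 : ℕ) : ℂ) + 1 := by push_cast; ring
      rw [mul_one]
      conv_rhs => rw [this]
      rw [← hp]
      ring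
    exact mul_left_cancel₀ h0 h3
  refine not_isIntegral_inv (by omega) ?_ hp2
  have hi := (isIntegral_algebraMap (R := ℤ) (A := ℂ) (x := ((m + 3 : ℕ) : ℤ))).pow m
  have hi2 := hi.mul hZi
  simpa using hi2

/-! ### Characters of finite fields -/

section fields

variable {K L : Type} [Field K] [Fintype K] [Field L] [Fintype L] [Algebra K L]

theorem mulNorm_apply (χ : MulChar K ℂ) (y : L) : mulNorm χ y = χ (Algebra.norm K y) := by
  by_cases hy : y = 0
  · subst hy
    rw [Algebra.norm_zero, MulChar.map_zero, MulChar.map_zero]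
  · obtain ⟨u, rfl⟩ : ∃ u : Lˣ, (u : L) = y := ⟨Units.mk0 y hy, rfl⟩
    rw [mulNorm, MulChar.ofUnitHom_coe]
    rfl

theorem mulNorm_pow (χ : MulChar K ℂ) (n : ℕ) :
    (mulNorm χ : MulChar L ℂ) ^ n = mulNorm (χ ^ n) := by
  ext u
  rw [MulChar.pow_apply_coe, mulNorm_apply, mulNorm_apply]
  have hu : IsUnit (Algebra.norm K (u : L)) := u.isUnit.map _
  obtain ⟨v, hv⟩ := hu
  rw [← hv, MulChar.pow_apply_coe]

theorem mulNorm_one : (mulNorm (1 : MulChar K ℂ) : MulChar L ℂ) = 1 := by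
  ext u
  rw [mulNorm_apply, MulChar.one_apply_coe]
  exact MulChar.one_apply (u.isUnit.map _)

theorem pow_card_sub_one (χ : MulChar K ℂ) : χ ^ (Fintype.card K - 1) = 1 := by
  ext u
  rw [MulChar.pow_apply_coe, MulChar.one_apply_coe, ← map_pow,
    FiniteField.pow_card_sub_one_eq_one _ u.ne_zero, map_one]

theorem addTrace_apply (ψ : AddChar K ℂ) (y : L) :
    addTrace L ψ y = ψ (Algebra.trace K L y) := rfl

theorem addTrace_ne_one {ψ : AddChar K ℂ} (hψ : ψ ≠ 1) : addTrace L ψ ≠ 1 := by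
  intro h
  apply hψ
  ext x
  obtain ⟨y, rfl⟩ := Algebra.trace_surjective K L x
  rw [← addTrace_apply, h]
  rfl

theorem addTrace_mulShift (ψ : AddChar K ℂ) (a : K) :
    addTrace L (ψ.mulShift a) = (addTrace L ψ).mulShift (algebraMap K L a) := by
  ext y
  rw [addTrace_apply, AddChar.mulShift_apply, AddChar.mulShift_apply, addTrace_apply,
    ← Algebra.smul_def, map_smul, smul_eq_mul]

theorem trace_frob (y : L) :
    Algebra.trace K L (y ^ Fintype.card K) = Algebra.trace K L y := by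
  have h := Algebra.trace_eq_of_algEquiv (FiniteField.frobeniusAlgEquivOfAlgebraic K L) y
  exact h

/-- Gauss sums are invariant under the Frobenius automorphism. -/
theorem gaussSum_frob (χ : MulChar L ℂ) (ψ : AddChar K ℂ) :
    gaussSum (χ ^ Fintype.card K) (addTrace L ψ) = gaussSum χ (addTrace L ψ) := by
  unfold gaussSum
  have hb : Function.Bijective (fun y : L => y ^ Fintype.card K) :=
    (FiniteField.frobeniusAlgEquivOfAlgebraic K L).bijective
  refine Fintype.sum_bijective _ hb _ _ fun y => ?_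
  rw [addTrace_apply, addTrace_apply, trace_frob, map_pow,
    MulChar.pow_apply' _ Fintype.card_ne_zero]

theorem mem_range_of_pow_card {y : L} (hy : y ^ Fintype.card K = y) :
    ∃ x : K, algebraMap K L x = y := by
  classical
  have h1 : (univ.image (algebraMap K L)) = ({y | y ^ Fintype.card K = y} : Finset L) := by
    apply Finset.eq_of_subset_of_card_le
    · intro z hz
      obtain ⟨x, -, rfl⟩ := Finset.mem_image.1 hz
      rw [Finset.mem_filter]
      exact ⟨Finset.mem_univ _, by rw [← map_pow, FiniteField.pow_card]⟩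
    · rw [Finset.card_image_of_injective _ (algebraMap K L).injective, Finset.card_univ]
      have hne : (Polynomial.X ^ Fintype.card K - Polynomial.X : Polynomial L) ≠ 0 :=
        FiniteField.X_pow_card_sub_X_ne_zero L Fintype.one_lt_card
      have hsub : ({y | y ^ Fintype.card K = y} : Finset L) ⊆
          (Polynomial.X ^ Fintype.card K - Polynomial.X : Polynomial L).roots.toFinset := by
        intro z hz
        rw [Multiset.mem_toFinset, Polynomial.mem_roots hne, Polynomial.IsRoot.def,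
          Polynomial.eval_sub, Polynomial.eval_pow, Polynomial.eval_X,
          (Finset.mem_filter.1 hz).2, sub_self]
      refine (Finset.card_le_card hsub).trans ((Multiset.toFinset_card_le _).trans ?_)
      refine (Polynomial.card_roots' _).trans ?_
      rw [FiniteField.X_pow_card_sub_X_natDegree_eq L Fintype.one_lt_card]
  have h2 : y ∈ univ.image (algebraMap K L) := by
    rw [h1, Finset.mem_filter]
    exact ⟨Finset.mem_univ _, hy⟩
  obtain ⟨x, -, hx⟩ := Finset.mem_image.1 h2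
  exact ⟨x, hx⟩

theorem isIntegral_mulChar (χ : MulChar L ℂ) (y : L) : IsIntegral ℤ (χ y) := by
  by_cases hy : y = 0
  · subst hy
    rw [MulChar.map_zero]
    exact isIntegral_zero
  · refine IsIntegral.of_pow (n := Fintype.card L - 1) ?_ ?_
    · have := Fintype.one_lt_card (α := L)
      omega
    · rw [← map_pow, FiniteField.pow_card_sub_one_eq_one _ hy, map_one]
      exact isIntegral_one

theorem isIntegral_addChar (ψ : AddChar L ℂ) (y : L) : IsIntegral ℤ (ψ y) := by
  refine IsIntegral.of_pow (n := Fintype.card L) Fintype.card_pos ?_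
  rw [← AddChar.map_nsmul_eq_pow, card_nsmul_eq_zero, AddChar.map_zero_eq_one]
  exact isIntegral_one

theorem isIntegral_gaussSum (χ : MulChar L ℂ) (ψ : AddChar L ℂ) :
    IsIntegral ℤ (gaussSum χ ψ) :=
  IsIntegral.sum _ fun y _ => (isIntegral_mulChar χ y).mul (isIntegral_addChar ψ y)

/-- The absolute value of a Gauss sum. -/
theorem gaussSum_mul_star (χ : MulChar L ℂ) {ψ : AddChar L ℂ} (hψ : ψ ≠ 1) :
    ∃ k : ℕ, gaussSum χ ψ * star (gaussSum χ ψ) = (Fintype.card L : ℂ) ^ k := by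
  by_cases hχ : χ = 1
  · subst hχ
    refine ⟨0, ?_⟩
    rw [gaussSum_one_left hψ]
    simp
  · refine ⟨1, ?_⟩
    rw [star_gaussSum_eq, pow_one]
    exact gaussSum_mul_gaussSum_eq_card hχ (AddChar.IsPrimitive.of_ne_one hψ)

/-! ### The congruence -/

theorem pow_modEq (d l i : ℕ) (h : l ∣ d) : (1 + d) ^ i ≡ 1 + i * d [MOD l * d] := by
  induction i with
  | zero => simp [Nat.ModEq]
  | succ i ih =>
    rw [pow_succ]
    refine (ih.mul_right (1 + d)).trans ?_
    have h1 : (1 + i * d) * (1 + d) = 1 + (i + 1) * d + i * (d * d) := by ring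
    rw [h1]
    have h2 : l * d ∣ i * (d * d) := (Nat.mul_dvd_mul_right h d).mul_left i
    have h3 := (Nat.modEq_zero_iff_dvd.2 h2).add_left (1 + (i + 1) * d)
    simpa using h3

theorem geom_modEq {q l : ℕ} (hq : 1 ≤ q) (hl : Odd l) (h : l ∣ q - 1) :
    ∑ i ∈ range l, q ^ i ≡ l [MOD l * (q - 1)] := by
  obtain ⟨d, rfl⟩ : ∃ d, q = 1 + d := ⟨q - 1, by omega⟩
  rw [Nat.add_sub_cancel_left] at h ⊢
  have h1 : ∑ i ∈ range l, (1 + d) ^ i ≡ ∑ i ∈ range l, (1 + i * d) [MOD l * d] := by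
    refine Nat.ModEq.sum fun i _ => ?_
    exact pow_modEq d l i h
  refine h1.trans ?_
  rw [Finset.sum_add_distrib, ← Finset.sum_mul, Finset.sum_const, Finset.card_range,
    smul_eq_mul, mul_one]
  obtain ⟨m, rfl⟩ := hl
  have h2 : ∑ i ∈ range (2 * m + 1), i = (2 * m + 1) * m := by
    have := Finset.sum_range_id_mul_two (2 * m + 1)
    have h3 : (2 * m + 1) * (2 * m + 1 - 1) = ((2 * m + 1) * m) * 2 := by
      rw [Nat.add_sub_cancel]; ring
    rw [h3] at this
    exact Nat.eq_of_mul_eq_mul_right (by norm_num) this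
  rw [h2]
  have h3 : (2 * m + 1) * d ∣ (2 * m + 1) * m * d := ⟨m, by ring⟩
  simpa using (Nat.modEq_zero_iff_dvd.2 h3).add_left (2 * m + 1)

theorem char_restrict (X : MulChar L ℂ) (Y : MulChar K ℂ) (l : ℕ)
    (hl : Odd l) (hlq : l ∣ Fintype.card K - 1) (hfin : Module.finrank K L = l)
    (hXY : X ^ l = mulNorm Y) {x : K} (hx : x ≠ 0) : X (algebraMap K L x) = Y x := by
  have hl0 : l ≠ 0 := by
    rintro rfl
    exact absurd hl (by decide)
  obtain ⟨y, rfl⟩ := FiniteField.norm_surjective K L x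
  have hyl : X y ^ l = Y (Algebra.norm K y) := by
    rw [← MulChar.pow_apply' X hl0 y, hXY, mulNorm_apply]
  rw [FiniteField.algebraMap_norm_eq_pow_sum, map_pow, hfin, ← hyl]
  refine pow_eq_pow_of_modEq (n := l * (Fintype.card K - 1)) ?_ ?_
  · rw [Nat.card_eq_fintype_card]
    exact geom_modEq Fintype.card_pos hl hlq
  · rw [pow_mul, hyl, ← map_pow, FiniteField.pow_card_sub_one_eq_one _ hx, map_one]

theorem gaussSum_modEq (X : MulChar L ℂ) (Y : MulChar K ℂ) (ψ : AddChar K ℂ) (l : ℕ)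
    (hl : l.Prime) (hl2 : l ≠ 2) (hlq : l ∣ Fintype.card K - 1) (hfin : Module.finrank K L = l)
    (hXY : X ^ l = mulNorm Y) :
    ∃ w : ℂ, IsIntegral ℤ w ∧
      gaussSum X (addTrace L ψ) = gaussSum Y (ψ.mulShift (l : K)) + l * w := by
  classical
  have := Fact.mk hl
  have hodd : Odd l := hl.odd_of_ne_two hl2
  set q := Fintype.card K with hq
  have hq1 : 1 < q := Fintype.one_lt_card
  obtain ⟨n, hn⟩ := hlq
  have hlq : l ∣ q - 1 := ⟨n, hn⟩
  let r : L → ℂ := fun y => X y ^ (q - 1)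
  let f : L → ℂ := fun y => X y * addTrace L ψ y
  have hr0 : ∀ y, y ≠ 0 → r y ^ l = 1 := by
    intro y hy
    have h1 : X y ^ l = Y (Algebra.norm K y) := by
      rw [← MulChar.pow_apply' X hl.ne_zero y, hXY, mulNorm_apply]
    have h2 : Algebra.norm K y ≠ 0 := Algebra.norm_ne_zero_iff.2 hy
    change (X y ^ (q - 1)) ^ l = 1
    rw [← pow_mul, mul_comm, pow_mul, h1, ← map_pow, hq,
      FiniteField.pow_card_sub_one_eq_one _ h2, map_one]
  have hrq : ∀ y, r (y ^ q) = r y := by
    intro y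
    by_cases hy : y = 0
    · subst hy
      rw [zero_pow (by omega)]
    · change (X (y ^ q)) ^ (q - 1) = _
      rw [map_pow, ← pow_mul, mul_comm, pow_mul]
      change r y ^ q = r y
      obtain ⟨m, hm⟩ : ∃ m, q = l * n + 1 := ⟨0, by omega⟩
      rw [hm, pow_succ, pow_mul, hr0 y hy, one_pow, one_mul]
  have hfq : ∀ y, f (y ^ q) = f y * r y := by
    intro y
    change X (y ^ q) * addTrace L ψ (y ^ q) = X y * addTrace L ψ y * X y ^ (q - 1)
    rw [map_pow, addTrace_apply, addTrace_apply, hq, trace_frob, ← hq]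
    have : X y ^ q = X y * X y ^ (q - 1) := by
      rw [← pow_succ']
      congr 1
      omega
    rw [this]
    ring
  have hb : Function.Bijective (fun y : L => y ^ q) :=
    (FiniteField.frobeniusAlgEquivOfAlgebraic K L).bijective
  have hA : ∀ h : ℂ → ℂ, ∑ y, f y * h (r y) * (1 - r y) = 0 := by
    intro h
    have h1 : ∑ y, f y * h (r y) = ∑ y, f y * r y * h (r y) := by
      symm
      refine Fintype.sum_bijective _ hb _ _ fun y => ?_
      rw [hfq, hrq]
    have h2 : ∑ y, f y * h (r y) * (1 - r y) = ∑ y, f y * h (r y) - ∑ y, f y * r y * h (r y) := by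
      rw [← Finset.sum_sub_distrib]
      exact Finset.sum_congr rfl fun y _ => by ring
    rw [h2, h1, sub_self]
  let F : L → ℂ := fun y => if r y = 1 then f y else 0
  have hB : gaussSum X (addTrace L ψ) = ∑ y, F y := by
    have h1 := hA (fun z => if z = 1 then 0 else (1 - z)⁻¹)
    have h2 : ∑ y, f y - ∑ y, F y = 0 := by
      rw [← Finset.sum_sub_distrib, ← h1]
      refine Finset.sum_congr rfl fun y _ => ?_
      by_cases hy : r y = 1
      · simp only [F, if_pos hy, mul_zero, sub_self, zero_mul]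
      · simp only [F, if_neg hy, sub_zero]
        rw [mul_assoc, inv_mul_cancel₀ (sub_ne_zero.2 (Ne.symm hy)), mul_one]
    exact sub_eq_zero.1 h2
  have hFq : ∀ y, F (y ^ q) = F y := by
    intro y
    simp only [F]
    rw [hrq, hfq]
    by_cases hy : r y = 1
    · rw [if_pos hy, if_pos hy, hy, mul_one]
    · rw [if_neg hy, if_neg hy]
  have hFi : ∀ y, IsIntegral ℤ (F y) := by
    intro y
    simp only [F]
    split_ifs
    · exact (isIntegral_mulChar X y).mul (isIntegral_addChar _ y)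
    · exact isIntegral_zero
  obtain ⟨w, hw, hsum⟩ := sum_modEq (fun y : L => y ^ q) l (by
    intro y
    rw [pow_iterate]
    change y ^ (q ^ l) = y
    have h1 : q ^ l = Fintype.card L := by
      rw [Module.card_eq_pow_finrank (K := K) (V := L), hfin]
    rw [h1, FiniteField.pow_card]) F hFq hFi
  refine ⟨w, hw, ?_⟩
  rw [hB, hsum]
  congr 1
  unfold gaussSum
  symm
  refine Finset.sum_nbij (algebraMap K L) ?_ ?_ ?_ ?_
  · intro x _
    rw [Finset.mem_filter]
    refine ⟨Finset.mem_univ _, ?_⟩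
    change algebraMap K L x ^ q = _
    rw [← map_pow, hq, FiniteField.pow_card]
  · exact (algebraMap K L).injective.injOn
  · intro y hy
    have hy2 : y ^ q = y := (Finset.mem_filter.1 (Finset.mem_coe.1 hy)).2
    obtain ⟨x, hx⟩ := mem_range_of_pow_card hy2
    exact ⟨x, by simp, hx⟩
  · intro x _
    by_cases hx : x = 0
    · subst hx
      simp only [F, f, map_zero, MulChar.map_zero, zero_mul, ite_self]
    · have h1 : r (algebraMap K L x) = 1 := by
        change X (algebraMap K L x) ^ (q - 1) = 1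
        rw [← map_pow, ← map_pow, hq, FiniteField.pow_card_sub_one_eq_one _ hx, map_one, map_one]
      simp only [F, if_pos h1, f]
      rw [char_restrict X Y l hodd hlq hfin hXY hx, addTrace_apply, Algebra.trace_algebraMap,
        hfin, AddChar.mulShift_apply, nsmul_eq_mul]

end fields

/-- The non-split form of the Hasse-Davenport product formula for an odd prime. -/
theorem hdOddNS (h1 : HDLift) (h3 : HDOdd) : HDOddNS := by
  intro K L _ _ _ _ _ X Y ψ l hψ hl hl2 hlq hfin hXY hX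
  have := Fact.mk hl
  set q := Fintype.card K with hq
  have hq1 : 1 < q := Fintype.one_lt_card
  have hodd : Odd l := hl.odd_of_ne_two hl2
  have hcardL : Fintype.card L = q ^ l := by
    rw [Module.card_eq_pow_finrank (K := K) (V := L), hfin]
  have hlK : (l : K) ≠ 0 := by
    intro h0
    obtain ⟨n, hn⟩ := hlq
    have h2 : (q : K) = 0 := FiniteField.cast_card_eq_zero K
    have h4 : q = l * n + 1 := by omega
    rw [h4] at h2
    push_cast at h2
    rw [h0, zero_mul, zero_add] at h2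
    exact one_ne_zero h2
  set ψl : AddChar K ℂ := ψ.mulShift (l : K) with hψl
  have hψl1 : ψl ≠ 1 := by
    have h2 := (AddChar.IsPrimitive.of_ne_one hψ) hlK
    exact h2
  set ψL : AddChar L ℂ := addTrace L ψ with hψL
  have hψL1 : ψL ≠ 1 := addTrace_ne_one hψ
  -- the character of order `l`
  set ρ : MulChar L ℂ := X ^ (q - 1) with hρ
  have hρl : ρ ^ l = 1 := by
    rw [hρ, ← pow_mul, mul_comm, pow_mul, hXY, mulNorm_pow, pow_card_sub_one, mulNorm_one]
  have hρo : orderOf ρ = l := orderOf_eq_prime hρl hX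
  have hρq : ρ ^ q = ρ := by
    obtain ⟨n, hn⟩ := hlq
    have h4 : q = l * n + 1 := by omega
    rw [h4, pow_succ, pow_mul, hρl, one_pow, one_mul]
  have hg : ∀ i : ℕ, gaussSum (X * ρ ^ i) ψL = gaussSum X ψL := by
    intro i
    induction i with
    | zero => rw [pow_zero, mul_one]
    | succ i ih =>
      have h5 : X * ρ ^ (i + 1) = (X * ρ ^ i) ^ q := by
        have h6 : X ^ q = X * ρ := by
          rw [hρ, ← pow_succ']
          congr 1
          omega
        have h7 : (ρ ^ i) ^ q = ρ ^ i := by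
          rw [pow_right_comm, hρq]
        rw [mul_pow, h6, h7, pow_succ', mul_assoc]
      rw [h5, hψL, gaussSum_frob, ← hψL, ih]
  set A : ℂ := -gaussSum X ψL with hA
  set B : ℂ := -gaussSum Y ψl * (q : ℂ) ^ ((l - 1) / 2) with hB
  have hpow : A ^ l = B ^ l := by
    have h5 := h3 L X ρ ψL l hψL1 hl hl2 hρo
    rw [Finset.prod_congr rfl (fun i _ => congrArg Neg.neg (hg i)), Finset.prod_const,
      Finset.card_range] at h5
    have h6 : ψL.mulShift (l : L) = addTrace L ψl := by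
      rw [hψl, addTrace_mulShift, map_natCast]
    rw [hA, h5, hXY, h6, h1 K L Y ψl hψl1, hfin, hcardL, hB, mul_pow]
    congr 1
    push_cast
    rw [← pow_mul, ← pow_mul, mul_comm]
  -- congruence
  obtain ⟨w, hw, hwe⟩ := gaussSum_modEq X Y ψ l hl hl2 hlq hfin hXY
  have hqi : ∀ k : ℕ, ∃ n : ℤ, (q : ℂ) ^ k = 1 + l * n := by
    intro k
    have h5 : (l : ℤ) ∣ (q : ℤ) ^ k - 1 := by
      have h6 : (l : ℤ) ∣ (q : ℤ) - 1 := by
        obtain ⟨n, hn⟩ := hlq
        exact ⟨n, by omega⟩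
      exact h6.trans (sub_one_dvd_pow_sub_one (q : ℤ) k)
    obtain ⟨n, hn⟩ := h5
    refine ⟨n, ?_⟩
    have h7 : (((q : ℤ) ^ k - 1 : ℤ) : ℂ) = ((l * n : ℤ) : ℂ) := by rw [hn]
    push_cast at h7
    linear_combination h7
  have hgi : IsIntegral ℤ (gaussSum Y ψl) := isIntegral_gaussSum Y ψl
  obtain ⟨n1, hn1⟩ := hqi ((l - 1) / 2)
  have hAB : ∃ w' : ℂ, IsIntegral ℤ w' ∧ A - B = l * w' := by
    refine ⟨-w + gaussSum Y ψl * n1, ?_, ?_⟩
    · exact hw.neg.add (hgi.mul (isIntegral_algebraMap (R := ℤ) (A := ℂ) (x := n1)))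
    · rw [hA, hB, hn1, hwe]
      ring
  obtain ⟨w', hw', hAB⟩ := hAB
  obtain ⟨k, hk⟩ := gaussSum_mul_star Y hψl1
  have hq0 : (q : ℂ) ≠ 0 := by
    have : q ≠ 0 := by omega
    exact_mod_cast this
  have hY0 : gaussSum Y ψl ≠ 0 := by
    intro h0
    rw [h0, zero_mul] at hk
    exact pow_ne_zero k hq0 hk.symm
  have hB0 : B ≠ 0 := mul_ne_zero (neg_ne_zero.2 hY0) (pow_ne_zero _ hq0)
  set u : ℂ := A / B with hu
  have hul : u ^ l = 1 := by
    rw [hu, div_pow, hpow, div_self (pow_ne_zero _ hB0)]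
  have hAu : A = u * B := by rw [hu, div_mul_cancel₀ _ hB0]
  have hui : IsIntegral ℤ u := by
    refine IsIntegral.of_pow hl.pos ?_
    rw [hul]
    exact isIntegral_one
  -- `(u - 1) q ^ m = l * integral`
  have hBs : B * (-star (gaussSum Y ψl) * (q : ℂ) ^ ((l - 1) / 2)) =
      (q : ℂ) ^ (k + ((l - 1) / 2 + (l - 1) / 2)) := by
    rw [hB, pow_add, pow_add, hq, ← hk]
    ring
  obtain ⟨n2, hn2⟩ := hqi (k + ((l - 1) / 2 + (l - 1) / 2))
  have hsi : IsIntegral ℤ (star (gaussSum Y ψl)) := by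
    rw [star_gaussSum_eq]
    exact isIntegral_gaussSum _ _
  have hfinal : u - 1 = l * (w' * (-star (gaussSum Y ψl) * (q : ℂ) ^ ((l - 1) / 2)) -
      n2 * (u - 1)) := by
    have h5 : (u - 1) * B = l * w' := by rw [← hAB, hAu]; ring
    have h6 : (u - 1) * (1 + l * n2) =
        l * w' * (-star (gaussSum Y ψl) * (q : ℂ) ^ ((l - 1) / 2)) := by
      rw [← hn2, ← hBs, ← h5]
      ring
    linear_combination h6
  have hu1 : u = 1 := by
    refine eq_one_of_modEq hl hl2 hul ?_ hfinal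
    refine IsIntegral.sub (hw'.mul (hsi.neg.mul ?_)) (IsIntegral.mul ?_ (hui.sub isIntegral_one))
    · have hi := (isIntegral_algebraMap (R := ℤ) (A := ℂ) (x := (q : ℤ))).pow ((l - 1) / 2)
      simpa using hi
    · exact isIntegral_algebraMap (R := ℤ) (A := ℂ) (x := n2)
  rw [hAu, hu1, one_mul]

end Cfsg.Agent.H295.KGV
end

-- part: H991/HD/Lift
section
/-!
# The Hasse–Davenport lifting relation (helper991)

`K` a finite field, `L` a finite extension of degree `n`, `χ` a multiplicative and `ψ ≠ 1` an additive character of `K`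
with values in a domain `R`:
`- ∑ x : L, χ (N x) * ψ (Tr x) = (- ∑ x : K, χ x * ψ x) ^ n` (`lift`).
-/

set_option autoImplicit false
set_option linter.unusedSectionVars false

namespace Cfsg.Agent.H991.HD

open Polynomial

section

variable {K : Type*} [Field K] {R : Type*} [CommRing R]

/-- the weight of a polynomial -/
noncomputable def lam (χ : MulChar K R) (ψ : AddChar K R) (f : K[X]) : R :=
  χ ((-1) ^ f.natDegree * f.coeff 0) * ψ (-f.nextCoeff)

variable (χ : MulChar K R) (ψ : AddChar K R)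

theorem lam_one : lam χ ψ 1 = 1 := by
  unfold lam
  rw [natDegree_one, pow_zero, one_mul, coeff_one_zero, map_one, one_mul, ← C_1, nextCoeff_C_eq_zero, neg_zero,
    AddChar.map_zero_eq_one]

theorem lam_mul {f g : K[X]} (hf : f.Monic) (hg : g.Monic) : lam χ ψ (f * g) = lam χ ψ f * lam χ ψ g := by
  unfold lam
  rw [hf.natDegree_mul hg, mul_coeff_zero, hf.nextCoeff_mul hg, neg_add, AddChar.map_add_eq_mul, pow_add]
  have e : (-1 : K) ^ f.natDegree * (-1) ^ g.natDegree * (f.coeff 0 * g.coeff 0) =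
      ((-1) ^ f.natDegree * f.coeff 0) * ((-1) ^ g.natDegree * g.coeff 0) := by ring
  rw [e, map_mul]
  ring

theorem lam_pow {f : K[X]} (hf : f.Monic) (n : ℕ) : lam χ ψ (f ^ n) = lam χ ψ f ^ n := by
  induction n with
  | zero => rw [pow_zero, pow_zero, lam_one]
  | succ n ih => rw [pow_succ, lam_mul χ ψ (hf.pow n) hf, ih, pow_succ]

variable (K) in
theorem finite_monic [Finite K] (n : ℕ) : {f : K[X] | f.Monic ∧ f.natDegree = n}.Finite := by
  have h : Function.Injective (fun f : {f : K[X] | f.Monic ∧ f.natDegree = n} => fun i : Fin (n + 1) => f.1.coeff i) := by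
    rintro ⟨f, hf, hfn⟩ ⟨g, hg, hgn⟩ h
    apply Subtype.ext
    ext i
    by_cases hi : i < n + 1
    · exact congrFun h ⟨i, hi⟩
    · show f.coeff i = g.coeff i
      rw [coeff_eq_zero_of_natDegree_lt (by omega), coeff_eq_zero_of_natDegree_lt (by omega)]
  exact Set.finite_coe_iff.1 (Finite.of_injective _ h)

variable [Finite K]

variable (K) in
/-- the monic polynomials of degree `n` -/
noncomputable def Mn (n : ℕ) : Finset K[X] := (finite_monic K n).toFinset

theorem mem_Mn {n : ℕ} {f : K[X]} : f ∈ Mn K n ↔ f.Monic ∧ f.natDegree = n := by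
  unfold Mn
  rw [Set.Finite.mem_toFinset]
  rfl

/-- the sum of the weights -/
noncomputable def an (n : ℕ) : R := ∑ f ∈ Mn K n, lam χ ψ f

theorem an_zero : an χ ψ 0 = 1 := by
  have h : Mn K 0 = {1} := by
    ext f
    rw [mem_Mn, Finset.mem_singleton]
    constructor
    · rintro ⟨h1, h2⟩
      exact eq_one_of_monic_natDegree_zero h1 h2
    · rintro rfl
      exact ⟨monic_one, natDegree_one⟩
  unfold an
  rw [h, Finset.sum_singleton, lam_one]

theorem an_one [Fintype K] : an χ ψ 1 = ∑ x : K, χ x * ψ x := by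
  unfold an
  symm
  refine Finset.sum_bij' (fun b _ => X - C b) (fun f _ => - f.coeff 0) ?_ ?_ ?_ ?_ ?_
  · intro b _
    exact mem_Mn.2 ⟨monic_X_sub_C b, natDegree_X_sub_C b⟩
  · intro f _
    exact Finset.mem_univ _
  · intro b _
    simp
  · intro f hf
    obtain ⟨h1, h2⟩ := mem_Mn.1 hf
    have h3 := eq_X_add_C_of_natDegree_le_one h2.le
    have h4 : f.coeff 1 = 1 := by
      have : f.coeff f.natDegree = 1 := h1
      rwa [h2] at this
    rw [h4, C_1, one_mul] at h3
    rw [map_neg, sub_neg_eq_add]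
    exact h3.symm
  · intro b _
    unfold lam
    rw [natDegree_X_sub_C, nextCoeff_X_sub_C]
    simp

theorem an_ge [IsDomain R] (hψ : ψ ≠ 1) {n : ℕ} (hn : 2 ≤ n) : an χ ψ n = 0 := by
  obtain ⟨c, hc⟩ : ∃ c, ψ c ≠ 1 := by
    by_contra h
    push Not at h
    exact hψ (by ext x; rw [h x]; rfl)
  have hdeg : ∀ (c : K) {f : K[X]}, f.Monic → f.natDegree = n → (C c * X ^ (n - 1)).degree < f.degree := by
    intro c f hf hfn
    rw [degree_eq_natDegree hf.ne_zero, hfn]
    refine lt_of_le_of_lt (degree_C_mul_X_pow_le _ _) ?_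
    exact_mod_cast (by omega : n - 1 < n)
  have hmem : ∀ (c : K) {f : K[X]}, f ∈ Mn K n → f + C c * X ^ (n - 1) ∈ Mn K n := by
    intro c f hf
    obtain ⟨h1, h2⟩ := mem_Mn.1 hf
    refine mem_Mn.2 ⟨h1.add_of_left (hdeg c h1 h2), ?_⟩
    rw [natDegree_add_eq_left_of_degree_lt (hdeg c h1 h2), h2]
  have key : an χ ψ n = ψ c * an χ ψ n := by
    have h1 : an χ ψ n = ∑ f ∈ Mn K n, lam χ ψ (f + C (-c) * X ^ (n - 1)) := by
      unfold an
      refine Finset.sum_bij' (fun f _ => f + C c * X ^ (n - 1)) (fun f _ => f + C (-c) * X ^ (n - 1)) ?_ ?_ ?_ ?_ ?_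
      · intro f hf; exact hmem c hf
      · intro f hf; exact hmem (-c) hf
      · intro f _; rw [map_neg]; ring
      · intro f _; rw [map_neg]; ring
      · intro f _
        congr 1
        rw [map_neg]; ring
    calc an χ ψ n = ∑ f ∈ Mn K n, lam χ ψ (f + C (-c) * X ^ (n - 1)) := h1
      _ = ∑ f ∈ Mn K n, ψ c * lam χ ψ f := by
        refine Finset.sum_congr rfl fun f hf => ?_
        obtain ⟨h2, h3⟩ := mem_Mn.1 hf
        obtain ⟨-, h5⟩ := mem_Mn.1 (hmem (-c) hf)
        unfold lam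
        have e1 : (f + C (-c) * X ^ (n - 1)).coeff 0 = f.coeff 0 := by
          rw [coeff_add, coeff_C_mul, coeff_X_pow, if_neg (by omega), mul_zero, add_zero]
        have e2 : (f + C (-c) * X ^ (n - 1)).nextCoeff = f.nextCoeff - c := by
          rw [nextCoeff_of_natDegree_pos (by omega), nextCoeff_of_natDegree_pos (by omega), h5, h3, coeff_add,
            coeff_C_mul, coeff_X_pow, if_pos rfl, mul_one, sub_eq_add_neg]
        rw [h5, h3, e1, e2, neg_sub, sub_eq_add_neg, AddChar.map_add_eq_mul]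
        ring
      _ = ψ c * an χ ψ n := by
        rw [← Finset.mul_sum]; rfl
  have h2 : (1 - ψ c) * an χ ψ n = 0 := by
    rw [sub_mul, one_mul, ← key, sub_self]
  rcases mul_eq_zero.1 h2 with h | h
  · exact absurd (sub_eq_zero.1 h).symm hc
  · exact h

/-! ### irreducible polynomials -/

variable (K) in
/-- the monic irreducible polynomials of degree at most `n` -/
noncomputable def In (n : ℕ) : Finset K[X] := by
  classical
  exact ((Finset.range (n + 1)).biUnion (fun d => Mn K d)).filter (fun P => Irreducible P)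

theorem mem_In {n : ℕ} {P : K[X]} : P ∈ In K n ↔ P.Monic ∧ Irreducible P ∧ P.natDegree ≤ n := by
  classical
  unfold In
  simp only [Finset.mem_filter, Finset.mem_biUnion]
  constructor
  · rintro ⟨⟨d, hd, h⟩, h2⟩
    obtain ⟨h3, h4⟩ := mem_Mn.1 h
    rw [Finset.mem_range] at hd
    exact ⟨h3, h2, by omega⟩
  · rintro ⟨h1, h2, h3⟩
    exact ⟨⟨P.natDegree, Finset.mem_range.2 (by omega), mem_Mn.2 ⟨h1, rfl⟩⟩, h2⟩

open Classical in
/-- the degree as a sum over the prime powers dividing `f` -/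
theorem natDegree_eq_sum {n : ℕ} {f : K[X]} (hf : f ∈ Mn K n) :
    n = ∑ P ∈ In K n, ∑ j ∈ Finset.Icc 1 n, if P ^ j ∣ f then P.natDegree else 0 := by
  obtain ⟨h1, h2⟩ := mem_Mn.1 hf
  have hf0 : f ≠ 0 := h1.ne_zero
  set s := UniqueFactorizationMonoid.normalizedFactors f with hs
  have hprod : s.prod = f := by
    rw [hs, UniqueFactorizationMonoid.prod_normalizedFactors_eq hf0, h1.normalize_eq_self]
  have hmon : ∀ P ∈ s, P.Monic := by
    intro P hP
    have h3 := UniqueFactorizationMonoid.normalize_normalized_factor P hP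
    have h4 : P ≠ 0 := (UniqueFactorizationMonoid.irreducible_of_normalized_factor P hP).ne_zero
    rw [← h3]
    exact monic_normalize h4
  have hdeg : n = (s.map natDegree).sum := by
    have h3 := natDegree_multiset_prod_of_monic s hmon
    rw [hprod, h2] at h3
    exact h3
  rw [Finset.sum_multiset_map_count] at hdeg
  have hsub : s.toFinset ⊆ In K n := by
    intro P hP
    rw [Multiset.mem_toFinset] at hP
    refine mem_In.2 ⟨hmon P hP, UniqueFactorizationMonoid.irreducible_of_normalized_factor P hP, ?_⟩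
    rw [← h2]
    exact natDegree_le_of_dvd (UniqueFactorizationMonoid.dvd_of_mem_normalizedFactors hP) hf0
  rw [Finset.sum_subset hsub (fun P _ hP => by
    rw [Multiset.mem_toFinset] at hP
    rw [Multiset.count_eq_zero_of_notMem hP, zero_smul])] at hdeg
  refine hdeg.trans (Finset.sum_congr rfl fun P hP => ?_)
  obtain ⟨k1, k2, k3⟩ := mem_In.1 hP
  have hcount : ∀ j, P ^ j ∣ f ↔ j ≤ Multiset.count P s := by
    intro j
    rw [pow_dvd_iff_le_emultiplicity, UniqueFactorizationMonoid.emultiplicity_eq_count_normalizedFactors k2 hf0,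
      k1.normalize_eq_self, Nat.cast_le]
  have hle : Multiset.count P s ≤ n := by
    have h3 : P ^ Multiset.count P s ∣ f := (hcount _).2 le_rfl
    have h4 := natDegree_le_of_dvd h3 hf0
    rw [k1.natDegree_pow, h2] at h4
    have h5 : 1 ≤ P.natDegree := k2.natDegree_pos
    nlinarith
  rw [← Finset.sum_filter, Finset.sum_const, smul_eq_mul]
  congr 1
  have h6 : (Finset.Icc 1 n).filter (fun j => P ^ j ∣ f) = Finset.Icc 1 (Multiset.count P s) := by
    ext j
    rw [Finset.mem_filter, Finset.mem_Icc, Finset.mem_Icc, hcount]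
    omega
  rw [h6, Nat.card_Icc, Nat.add_sub_cancel]

open Classical in
/-- the sum over the multiples of `g` -/
theorem sum_dvd {n : ℕ} {g : K[X]} (hg : g.Monic) : (∑ f ∈ Mn K n, if g ∣ f then lam χ ψ f else 0) =
    if g.natDegree ≤ n then lam χ ψ g * an χ ψ (n - g.natDegree) else 0 := by
  split_ifs with h
  · rw [← Finset.sum_filter]
    unfold an
    rw [Finset.mul_sum]
    symm
    refine Finset.sum_bij' (fun f _ => g * f) (fun f _ => f /ₘ g) ?_ ?_ ?_ ?_ ?_
    · intro f hf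
      obtain ⟨h1, h2⟩ := mem_Mn.1 hf
      rw [Finset.mem_filter, mem_Mn]
      refine ⟨⟨hg.mul h1, ?_⟩, dvd_mul_right _ _⟩
      rw [hg.natDegree_mul h1, h2]; omega
    · intro f hf
      rw [Finset.mem_filter, mem_Mn] at hf
      obtain ⟨⟨h1, h2⟩, k, rfl⟩ := hf
      have hk : k.Monic := hg.of_mul_monic_left h1
      rw [mul_divByMonic_cancel_left k hg, mem_Mn]
      rw [hg.natDegree_mul hk] at h2
      exact ⟨hk, by omega⟩
    · intro f hf
      exact mul_divByMonic_cancel_left f hg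
    · intro f hf
      rw [Finset.mem_filter, mem_Mn] at hf
      obtain ⟨⟨h1, h2⟩, k, rfl⟩ := hf
      rw [mul_divByMonic_cancel_left k hg]
    · intro f hf
      obtain ⟨h1, h2⟩ := mem_Mn.1 hf
      exact (lam_mul χ ψ hg h1).symm
  · refine Finset.sum_eq_zero fun f hf => ?_
    obtain ⟨h1, h2⟩ := mem_Mn.1 hf
    rw [if_neg]
    intro hd
    have := natDegree_le_of_dvd hd h1.ne_zero
    omega

open Classical in
/-- the sum over the prime powers of degree `k` -/
noncomputable def sn (N k : ℕ) : R :=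
  ∑ P ∈ In K N, if P.natDegree ∣ k then (P.natDegree : R) * lam χ ψ P ^ (k / P.natDegree) else 0

theorem sn_eq {N k : ℕ} (hk : 1 ≤ k) (hkN : k ≤ N) : sn χ ψ N k = sn χ ψ k k := by
  unfold sn
  symm
  refine Finset.sum_subset ?_ ?_
  · intro P hP
    obtain ⟨h1, h2, h3⟩ := mem_In.1 hP
    exact mem_In.2 ⟨h1, h2, by omega⟩
  · intro P hP hP'
    obtain ⟨h1, h2, h3⟩ := mem_In.1 hP
    rw [if_neg]
    intro hd
    exact hP' (mem_In.2 ⟨h1, h2, Nat.le_of_dvd (by omega) hd⟩)

open Classical in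
/-- **the logarithmic derivative** -/
theorem log_deriv (n : ℕ) : (n : R) * an χ ψ n =
    ∑ P ∈ In K n, ∑ j ∈ Finset.Icc 1 n, if j * P.natDegree ≤ n then
      (P.natDegree : R) * (lam χ ψ P ^ j * an χ ψ (n - j * P.natDegree)) else 0 := by
  calc (n : R) * an χ ψ n = ∑ f ∈ Mn K n, (n : R) * lam χ ψ f := by unfold an; rw [Finset.mul_sum]
    _ = ∑ f ∈ Mn K n, ∑ P ∈ In K n, ∑ j ∈ Finset.Icc 1 n, (P.natDegree : R) * (if P ^ j ∣ f then lam χ ψ f else 0) := by
      refine Finset.sum_congr rfl fun f hf => ?_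
      have h1 := congrArg (Nat.cast : ℕ → R) (natDegree_eq_sum hf)
      rw [h1]
      push_cast
      rw [Finset.sum_mul]
      refine Finset.sum_congr rfl fun P _ => ?_
      rw [Finset.sum_mul]
      refine Finset.sum_congr rfl fun j _ => ?_
      split_ifs <;> simp
    _ = ∑ P ∈ In K n, ∑ j ∈ Finset.Icc 1 n, (P.natDegree : R) * ∑ f ∈ Mn K n, (if P ^ j ∣ f then lam χ ψ f else 0) := by
      rw [Finset.sum_comm]
      refine Finset.sum_congr rfl fun P _ => ?_
      rw [Finset.sum_comm]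
      refine Finset.sum_congr rfl fun j _ => ?_
      rw [Finset.mul_sum]
    _ = _ := by
      refine Finset.sum_congr rfl fun P hP => Finset.sum_congr rfl fun j _ => ?_
      obtain ⟨h1, h2, h3⟩ := mem_In.1 hP
      rw [sum_dvd χ ψ (h1.pow j), h1.natDegree_pow, lam_pow χ ψ h1]
      split_ifs
      · rfl
      · rw [mul_zero]

theorem sn_one : sn χ ψ 1 1 = an χ ψ 1 := by
  classical
  have h := log_deriv χ ψ 1
  rw [Nat.cast_one, one_mul] at h
  rw [h]
  unfold sn
  refine Finset.sum_congr rfl fun P hP => ?_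
  obtain ⟨h1, h2, h3⟩ := mem_In.1 hP
  have h4 : P.natDegree = 1 := le_antisymm h3 h2.natDegree_pos
  rw [h4]
  simp [an_zero]

theorem sn_succ [IsDomain R] (hψ : ψ ≠ 1) {n : ℕ} (hn : 1 ≤ n) : sn χ ψ (n + 1) (n + 1) = -(an χ ψ 1 * sn χ ψ n n) := by
  classical
  have h := log_deriv χ ψ (n + 1)
  rw [an_ge χ ψ hψ (by omega), mul_zero] at h
  have h1 : sn χ ψ (n + 1) (n + 1) + an χ ψ 1 * sn χ ψ (n + 1) n = 0 := by
    rw [h]
    unfold sn
    rw [Finset.mul_sum, ← Finset.sum_add_distrib]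
    refine Finset.sum_congr rfl fun P hP => ?_
    obtain ⟨k1, k2, k3⟩ := mem_In.1 hP
    have hd : 1 ≤ P.natDegree := k2.natDegree_pos
    -- only `j * d = n + 1` and `j * d = n` contribute
    have key : ∀ j ∈ Finset.Icc 1 (n + 1), (if j * P.natDegree ≤ n + 1 then
        (P.natDegree : R) * (lam χ ψ P ^ j * an χ ψ (n + 1 - j * P.natDegree)) else 0) =
        (if j * P.natDegree = n + 1 then (P.natDegree : R) * lam χ ψ P ^ j else 0) +
        (if j * P.natDegree = n then an χ ψ 1 * ((P.natDegree : R) * lam χ ψ P ^ j) else 0) := by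
      intro j _
      by_cases h1 : j * P.natDegree = n + 1
      · rw [if_pos h1.le, if_pos h1, if_neg (by omega), h1, Nat.sub_self, an_zero, mul_one, add_zero]
      · by_cases h2 : j * P.natDegree = n
        · rw [if_pos (by omega), if_neg h1, if_pos h2, h2, Nat.add_sub_cancel_left]
          ring
        · rw [if_neg h1, if_neg h2, add_zero]
          split_ifs with h3
          · rw [an_ge χ ψ hψ (by omega), mul_zero, mul_zero]
          · rfl
    rw [Finset.sum_congr rfl key, Finset.sum_add_distrib]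
    have hsum : ∀ (m : ℕ) (c : ℕ → R), 1 ≤ m → m ≤ n + 1 →
        (∑ j ∈ Finset.Icc 1 (n + 1), if j * P.natDegree = m then c j else 0) =
        if P.natDegree ∣ m then c (m / P.natDegree) else 0 := by
      intro m c hm hmn
      split_ifs with hdm
      · rw [Finset.sum_eq_single (m / P.natDegree)]
        · rw [if_pos (Nat.div_mul_cancel hdm)]
        · intro j _ hj
          rw [if_neg]
          rintro rfl
          exact hj (Nat.mul_div_cancel j hd).symm
        · intro hj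
          exfalso
          apply hj
          rw [Finset.mem_Icc]
          refine ⟨Nat.div_pos (Nat.le_of_dvd (by omega) hdm) hd, (Nat.div_le_self _ _).trans hmn⟩
      · refine Finset.sum_eq_zero fun j _ => ?_
        rw [if_neg]
        rintro rfl
        exact hdm (Dvd.intro_left j rfl)
    rw [hsum (n + 1) (fun j => (P.natDegree : R) * lam χ ψ P ^ j) (by omega) le_rfl,
      hsum n (fun j => an χ ψ 1 * ((P.natDegree : R) * lam χ ψ P ^ j)) hn (by omega)]
    congr 1
    split_ifs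
    · rfl
    · rw [mul_zero]
  rw [sn_eq χ ψ hn (by omega)] at h1
  exact eq_neg_of_add_eq_zero_left h1

theorem neg_sn [IsDomain R] (hψ : ψ ≠ 1) {n : ℕ} (hn : 1 ≤ n) : - sn χ ψ n n = (- an χ ψ 1) ^ n := by
  induction n, hn using Nat.le_induction with
  | base => rw [sn_one, pow_one]
  | succ n hn ih =>
    rw [sn_succ χ ψ hψ hn, pow_succ, ← ih]
    ring

end

/-! ### the extension field -/

section ext

variable {K : Type*} [Field K] {R : Type*} [CommRing R] (χ : MulChar K R) (ψ : AddChar K R)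
variable {L : Type*} [Field L] [Algebra K L]

open IntermediateField in
theorem lam_minpoly [FiniteDimensional K L] (x : L) : (minpoly K x).natDegree ∣ Module.finrank K L ∧
    χ (Algebra.norm K x) * ψ (Algebra.trace K L x) =
      lam χ ψ (minpoly K x) ^ (Module.finrank K L / (minpoly K x).natDegree) := by
  have hint : IsIntegral K x := Algebra.IsIntegral.isIntegral x
  have h1 : Module.finrank K K⟮x⟯ = (minpoly K x).natDegree := adjoin.finrank hint
  have h2 := Module.finrank_mul_finrank K K⟮x⟯ L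
  rw [h1] at h2
  have hd : 0 < (minpoly K x).natDegree := minpoly.natDegree_pos hint
  refine ⟨⟨_, h2.symm⟩, ?_⟩
  have h3 : Module.finrank K L / (minpoly K x).natDegree = Module.finrank K⟮x⟯ L := by
    rw [← h2, Nat.mul_div_cancel_left _ hd]
  rw [h3, Algebra.norm_eq_norm_adjoin, trace_eq_trace_adjoin]
  have h4 : Algebra.norm K (AdjoinSimple.gen K x) = (-1) ^ (minpoly K x).natDegree * (minpoly K x).coeff 0 := by
    have h5 := Algebra.PowerBasis.norm_gen_eq_coeff_zero_minpoly (adjoin.powerBasis hint)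
    rw [adjoin.powerBasis_gen, adjoin.powerBasis_dim, minpoly_gen] at h5
    exact h5
  have h5 : Algebra.trace K K⟮x⟯ (AdjoinSimple.gen K x) = - (minpoly K x).nextCoeff := by
    have h6 := PowerBasis.trace_gen_eq_nextCoeff_minpoly (adjoin.powerBasis hint)
    rw [adjoin.powerBasis_gen, minpoly_gen] at h6
    exact h6
  rw [h4, h5, map_pow]
  unfold lam
  rw [mul_pow]
  congr 1
  generalize Module.finrank K⟮x⟯ L = m
  induction m with
  | zero => simp
  | succ m ih => rw [add_smul, one_smul, AddChar.map_add_eq_mul, ih, pow_succ]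

variable [Fintype K] [Fintype L]

/-- the number of roots -/
theorem card_roots {P : K[X]} (hP : P.Monic) (hirr : Irreducible P) (hd : P.natDegree ∣ Module.finrank K L) :
    Nat.card {x : L | minpoly K x = P} = P.natDegree := by
  have := Fact.mk hirr
  have h1 : Module.finrank K (AdjoinRoot P) = P.natDegree := by
    rw [(AdjoinRoot.powerBasis hirr.ne_zero).finrank, AdjoinRoot.powerBasis_dim]
  have h2 := FiniteField.natCard_algHom_of_finrank_dvd (F := K) (K := AdjoinRoot P) (L := L) (by rw [h1]; exact hd)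
  rw [h1] at h2
  rw [← h2]
  refine Nat.card_congr (Equiv.symm ((AdjoinRoot.equiv L K P hirr.ne_zero).trans (Equiv.subtypeEquivRight fun x => ?_)))
  rw [mem_aroots]
  constructor
  · rintro ⟨-, h⟩
    exact (minpoly.eq_of_irreducible_of_monic hirr h hP).symm
  · intro h
    refine ⟨hirr.ne_zero, ?_⟩
    have h3 : minpoly K x = P := h
    rw [← h3]
    exact minpoly.aeval K x

/-- the sum over the extension field -/
theorem sum_ext : (∑ x : L, χ (Algebra.norm K x) * ψ (Algebra.trace K L x)) =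
    sn χ ψ (Module.finrank K L) (Module.finrank K L) := by
  classical
  have : FiniteDimensional K L := Module.Finite.of_finite
  have hmaps : ∀ x ∈ (Finset.univ : Finset L), minpoly K x ∈ In K (Module.finrank K L) := by
    intro x _
    have hint : IsIntegral K x := Algebra.IsIntegral.isIntegral x
    refine mem_In.2 ⟨minpoly.monic hint, minpoly.irreducible hint, ?_⟩
    exact Nat.le_of_dvd Module.finrank_pos (lam_minpoly χ ψ x).1
  rw [← Finset.sum_fiberwise_of_maps_to hmaps]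
  unfold sn
  refine Finset.sum_congr rfl fun P hP => ?_
  obtain ⟨h1, h2, h3⟩ := mem_In.1 hP
  split_ifs with hd
  · have hcard : (Finset.univ.filter (fun x : L => minpoly K x = P)).card = P.natDegree := by
      rw [← card_roots (L := L) h1 h2 hd, Nat.card_eq_fintype_card, Fintype.card_subtype]
      rfl
    rw [← hcard, ← nsmul_eq_mul, ← Finset.sum_const]
    refine Finset.sum_congr rfl fun x hx => ?_
    rw [Finset.mem_filter] at hx
    rw [(lam_minpoly χ ψ x).2, hx.2, hcard]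
  · refine Finset.sum_eq_zero fun x hx => ?_
    rw [Finset.mem_filter] at hx
    exfalso
    apply hd
    rw [← hx.2]
    exact (lam_minpoly χ ψ x).1

/-- **Hasse–Davenport, lifting.** -/
theorem lift [IsDomain R] (hψ : ψ ≠ 1) :
    - (∑ x : L, χ (Algebra.norm K x) * ψ (Algebra.trace K L x)) = (- ∑ x : K, χ x * ψ x) ^ Module.finrank K L := by
  have : FiniteDimensional K L := Module.Finite.of_finite
  rw [sum_ext, neg_sn χ ψ hψ Module.finrank_pos, an_one]

end ext

end Cfsg.Agent.H991.HD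
end

-- part: H991/KGV/NT1
section
/-!
# Team KGV, NT1: the Hasse–Davenport lifting relation (helper991)
-/

set_option autoImplicit false

namespace Cfsg.Agent.H991.KGV

open Cfsg.Agent.H644.KGV

theorem mulNorm_apply {K L : Type*} [Field K] [Field L] [Algebra K L] [FiniteDimensional K L] (χ : MulChar K ℂ) (x : L) :
    mulNorm χ x = χ (Algebra.norm K x) := by
  by_cases hx : x = 0
  · subst hx
    rw [Algebra.norm_zero, MulChar.map_zero, MulChar.map_zero]
  · have hu : IsUnit x := isUnit_iff_ne_zero.2 hx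
    obtain ⟨u, rfl⟩ := hu
    unfold mulNorm
    rw [MulChar.ofUnitHom_coe]
    show ((χ.toUnitHom (Units.map (Algebra.norm K : L →* K) u) : ℂˣ) : ℂ) = _
    rw [MulChar.coe_toUnitHom]
    rfl

theorem addTrace_apply {K : Type*} (L : Type*) [Field K] [Field L] [Algebra K L] (ψ : AddChar K ℂ) (x : L) :
    addTrace L ψ x = ψ (Algebra.trace K L x) := rfl

/-- **NT1**: the Hasse–Davenport lifting relation. -/
theorem hdLift : HDLift := by
  intro K L _ _ _ _ _ χ ψ hψ
  have : FiniteDimensional K L := Module.Finite.of_finite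
  unfold gaussSum
  rw [← HD.lift (L := L) χ ψ hψ]
  congr 1
  refine Finset.sum_congr rfl fun x _ => ?_
  rw [mulNorm_apply, addTrace_apply]

end Cfsg.Agent.H991.KGV
end

-- part: H99/KGV/NT5a
section
/-!
# Team KGV, NT5: the nonsplit Hasse–Davenport formula for `2`, up to sign (helper99)
-/

set_option autoImplicit false
set_option linter.unusedSectionVars false

namespace Cfsg.Agent.H99.KGV

open Cfsg.Agent.H644.KGV Cfsg.Agent.H991.KGV

section

/-- uniqueness of the quadratic character -/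
theorem quad_unique {L : Type*} [Field L] [Finite L] {χ χ' : MulChar L ℂ} (h1 : χ ≠ 1) (h2 : χ ^ 2 = 1)
    (h1' : χ' ≠ 1) (h2' : χ' ^ 2 = 1) : χ = χ' := by
  obtain ⟨g, hg⟩ := IsCyclic.exists_generator (α := Lˣ)
  have key : ∀ {χ : MulChar L ℂ}, χ ≠ 1 → χ ^ 2 = 1 → χ (g : L) = -1 := by
    intro χ h1 h2
    have h3 : χ (g : L) ≠ 1 := by
      intro h
      apply h1
      rw [MulChar.eq_iff hg, h, MulChar.one_apply_coe]
    have h4 : χ (g : L) ^ 2 = 1 := by
      rw [← MulChar.pow_apply_coe, h2, MulChar.one_apply_coe]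
    exact (mul_self_eq_one_iff.1 (by rwa [← sq])).resolve_left h3
  rw [MulChar.eq_iff hg, key h1 h2, key h1' h2']

variable {K L : Type} [Field K] [Fintype K] [Field L] [Fintype L] [Algebra K L]

theorem mulNorm_pow (χ : MulChar K ℂ) (n : ℕ) : mulNorm (L := L) (χ ^ n) = mulNorm χ ^ n := by
  ext u
  rw [mulNorm_apply, MulChar.pow_apply_coe, mulNorm_apply]
  have h : IsUnit (Algebra.norm K (u : L)) := u.isUnit.map _
  obtain ⟨v, hv⟩ := h
  rw [← hv, MulChar.pow_apply_coe]

theorem mulNorm_one : mulNorm (L := L) (1 : MulChar K ℂ) = 1 := by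
  have := mulNorm_pow (L := L) (1 : MulChar K ℂ) 0
  rwa [pow_zero, pow_zero] at this

theorem mulNorm_injective : Function.Injective (mulNorm (K := K) (L := L)) := by
  intro χ χ' h
  ext u
  obtain ⟨v, hv⟩ := FiniteField.unitsMap_norm_surjective K L u
  have h1 := congrArg (fun X : MulChar L ℂ => X (v : L)) h
  simp only [mulNorm_apply] at h1
  have h2 : (u : K) = Algebra.norm K (v : L) := by rw [← hv]; rfl
  rw [h2, h1]

theorem addTrace_ne_one {ψ : AddChar K ℂ} (hψ : ψ ≠ 1) : addTrace L ψ ≠ 1 := by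
  intro h
  apply hψ
  ext x
  obtain ⟨y, hy⟩ := Algebra.trace_surjective K L x
  have h1 := congrArg (fun X : AddChar L ℂ => X y) h
  simp only [addTrace_apply] at h1
  rw [hy] at h1
  exact h1

theorem addTrace_mulShift (ψ : AddChar K ℂ) (n : ℕ) :
    addTrace L (ψ.mulShift (n : K)) = (addTrace L ψ).mulShift (n : L) := by
  ext x
  rw [addTrace_apply, AddChar.mulShift_apply, AddChar.mulShift_apply, addTrace_apply]
  congr 1
  rw [← nsmul_eq_mul, ← nsmul_eq_mul, map_nsmul]

/-- the Gauss sum is invariant under the Frobenius map -/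
theorem gaussSum_frob (X : MulChar L ℂ) (ψ : AddChar K ℂ) :
    gaussSum (X ^ Fintype.card K) (addTrace L ψ) = gaussSum X (addTrace L ψ) := by
  let σ : L ≃ₐ[K] L := FiniteField.frobeniusAlgEquivOfAlgebraic K L
  have hσ : ∀ y, σ y = y ^ Fintype.card K := fun y => by
    simp [σ]
  unfold gaussSum
  rw [← σ.toEquiv.sum_comp (fun y => X y * addTrace L ψ y)]
  refine Finset.sum_congr rfl fun y _ => ?_
  show _ = X (σ y) * addTrace L ψ (σ y)
  have h1 : Algebra.trace K L (σ y) = Algebra.trace K L y := Algebra.trace_eq_of_algEquiv σ y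
  rw [addTrace_apply, addTrace_apply, h1, hσ, map_pow, MulChar.pow_apply' _ Fintype.card_ne_zero]

/-- `X ^ (q - 1)` is the quadratic character. -/
theorem pow_eq_quad {X : MulChar L ℂ} {Y η : MulChar K ℂ} (hη : η ≠ 1) (hη2 : η ^ 2 = 1) (hXY : X ^ 2 = mulNorm Y)
    (hX : X ^ (Fintype.card K - 1) ≠ 1) : X ^ (Fintype.card K - 1) = mulNorm η := by
  refine quad_unique hX ?_ ?_ ?_
  · rw [← pow_mul, mul_comm, pow_mul, hXY, ← mulNorm_pow]
    have : Y ^ (Fintype.card K - 1) = 1 := by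
      ext u
      rw [MulChar.pow_apply_coe, ← map_pow, ← Units.val_pow_eq_pow_val]
      have : u ^ (Fintype.card K - 1) = 1 := by
        have := pow_card_eq_one' (G := Kˣ) (x := u)
        rwa [Nat.card_units, Nat.card_eq_fintype_card] at this
      rw [this, Units.val_one, map_one, MulChar.one_apply_coe]
    rw [this, mulNorm_one]
  · intro h
    apply hη
    apply mulNorm_injective (L := L)
    rw [h, mulNorm_one]
  · rw [← mulNorm_pow, hη2, mulNorm_one]

/-- The identity up to sign. -/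
theorem sq_eq (h1 : HDLift) (h2 : HDTwo) {X : MulChar L ℂ} {Y η : MulChar K ℂ} {ψ : AddChar K ℂ} (hψ : ψ ≠ 1)
    (hc : ringChar K ≠ 2) (hη : η ≠ 1) (hη2 : η ^ 2 = 1) (hf : Module.finrank K L = 2) (hXY : X ^ 2 = mulNorm Y)
    (hX : X ^ (Fintype.card K - 1) ≠ 1) :
    gaussSum X (addTrace L ψ) ^ 2 = (gaussSum Y (ψ.mulShift 2) * gaussSum η ψ) ^ 2 := by
  have hq : 1 ≤ Fintype.card K := Fintype.card_pos
  have hXq : X * mulNorm η = X ^ Fintype.card K := by
    rw [← pow_eq_quad hη hη2 hXY hX, ← pow_succ', Nat.sub_add_cancel hq]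
  have hc' : ringChar L ≠ 2 := by
    rwa [← Algebra.ringChar_eq K L]
  have hη' : mulNorm (L := L) η ≠ 1 := by
    intro h
    apply hη
    apply mulNorm_injective (L := L)
    rw [h, mulNorm_one]
  have hη2' : mulNorm (L := L) η ^ 2 = 1 := by rw [← mulNorm_pow, hη2, mulNorm_one]
  have h3 := h2 L X (mulNorm η) (addTrace L ψ) (addTrace_ne_one hψ) hc' hη' hη2'
  rw [hXq, gaussSum_frob, hXY] at h3
  have h4 : (addTrace L ψ).mulShift (2 : L) = addTrace L (ψ.mulShift (2 : K)) := by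
    have := addTrace_mulShift (L := L) ψ 2
    rw [Nat.cast_ofNat, Nat.cast_ofNat] at this
    exact this.symm
  have h2K : (2 : K) ≠ 0 := Ring.two_ne_zero hc
  have h5 : ψ.mulShift (2 : K) ≠ 1 := by
    intro h
    apply hψ
    ext x
    have := congrArg (fun χ : AddChar K ℂ => χ (2⁻¹ * x)) h
    simp only [AddChar.mulShift_apply] at this
    rwa [mul_inv_cancel_left₀ h2K] at this
  have h6 := h1 K L Y (ψ.mulShift 2) h5
  have h7 := h1 K L η ψ hψ
  rw [hf] at h6 h7
  rw [h4] at h3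
  rw [sq, h3]
  linear_combination (-(gaussSum (mulNorm η) (addTrace L ψ))) * h6 + gaussSum Y (ψ.mulShift 2) ^ 2 * h7

/-- The assembly: the sign is the statement `sign`. -/
theorem hdTwoNS_of (h1 : HDLift) (h2 : HDTwo)
    (sign : ∀ (K L : Type) [Field K] [Fintype K] [Field L] [Fintype L] [Algebra K L] (X : MulChar L ℂ)
      (Y η : MulChar K ℂ) (ψ : AddChar K ℂ), ψ ≠ 1 → ringChar K ≠ 2 → η ≠ 1 → η ^ 2 = 1 →
      Module.finrank K L = 2 → X ^ 2 = mulNorm Y → X ^ (Fintype.card K - 1) ≠ 1 →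
      gaussSum X (addTrace L ψ) ≠ gaussSum Y (ψ.mulShift 2) * gaussSum η ψ) : HDTwoNS := by
  intro K L _ _ _ _ _ X Y η ψ hψ hc hη hη2 hf hXY hX
  rcases sq_eq_sq_iff_eq_or_eq_neg.1 (sq_eq h1 h2 hψ hc hη hη2 hf hXY hX) with h | h
  · exact absurd h (sign K L X Y η ψ hψ hc hη hη2 hf hXY hX)
  · rw [h, neg_neg]

end

end Cfsg.Agent.H99.KGV
end

-- part: H140/KGV/Ext
section
/-!
# Homomorphisms from an extension `E = A ⟨t⟩`
-/

set_option autoImplicit false

namespace Cfsg.Agent.H140.KGV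

variable {E Γ : Type*} [Group E] [Group Γ]

/-- A homomorphism on `A` and an element `γ` with the relations of `t` extend to `E = A ⟨t⟩`. -/
theorem exists_ext (A : Subgroup E) [A.Normal] (t : E) (ht : A ⊔ Subgroup.zpowers t = ⊤)
    (φ : A →* Γ) (γ : Γ) (h1 : ∀ a b : A, (b : E) = t * a * t⁻¹ → φ b = γ * φ a * γ⁻¹)
    (h2 : ∀ (n : ℤ) (h : t ^ n ∈ A), φ ⟨t ^ n, h⟩ = γ ^ n) :
    ∃ ρ : E →* Γ, (∀ a : A, ρ a = φ a) ∧ ρ t = γ := by
  classical
  -- the action of `ℤ` on `A`
  let c : E →* MulAut A := MulAut.conjNormal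
  let τ : Multiplicative ℤ →* MulAut A := c.comp (zpowersHom E t)
  let π : A ⋊[τ] Multiplicative ℤ →* E := SemidirectProduct.lift A.subtype (zpowersHom E t) (by
    intro g
    apply MonoidHom.ext
    intro a
    simp only [MonoidHom.comp_apply, MulEquiv.coe_toMonoidHom, Subgroup.coe_subtype,
      MulAut.conj_apply]
    exact MulAut.conjNormal_apply _ _)
  have hπ : Function.Surjective π := by
    rw [← MonoidHom.range_eq_top, eq_top_iff, ← ht, sup_le_iff]
    constructor
    · intro a ha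
      exact ⟨SemidirectProduct.inl ⟨a, ha⟩, by simp [π]⟩
    · rw [Subgroup.zpowers_le]
      exact ⟨SemidirectProduct.inr (Multiplicative.ofAdd 1), by simp [π]⟩
  have key : ∀ n : ℤ, ∀ a b : A, (b : E) = t ^ n * a * (t ^ n)⁻¹ → φ b = γ ^ n * φ a * (γ ^ n)⁻¹ := by
    intro n
    induction n with
    | zero =>
      intro a b hb
      have : b = a := Subtype.ext (by simpa using hb)
      rw [this]; simp
    | succ n ih =>
      intro a b hb
      have hm : t ^ (n : ℤ) * a * (t ^ (n : ℤ))⁻¹ ∈ A := ‹A.Normal›.conj_mem _ a.2 _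
      have e1 := ih a ⟨_, hm⟩ rfl
      have e2 := h1 ⟨_, hm⟩ b (by
        rw [hb, add_comm, zpow_add, zpow_one]
        simp only [_root_.mul_inv_rev, mul_assoc])
      rw [e2, e1, add_comm, zpow_add, zpow_one]
      simp only [_root_.mul_inv_rev, mul_assoc]
    | pred n ih =>
      intro a b hb
      have hm : t * b * t⁻¹ ∈ A := ‹A.Normal›.conj_mem _ b.2 _
      have e1 := ih a ⟨_, hm⟩ (by
        show t * b * t⁻¹ = _
        rw [hb, sub_eq_add_neg, add_comm, zpow_add, zpow_neg_one]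
        group)
      have e2 := h1 b ⟨_, hm⟩ rfl
      rw [e1] at e2
      rw [sub_eq_add_neg, add_comm, zpow_add, zpow_neg_one]
      have e3 : φ b = γ⁻¹ * (γ * φ b * γ⁻¹) * γ := by group
      rw [e3, ← e2]
      group
  let σ : A ⋊[τ] Multiplicative ℤ →* Γ := SemidirectProduct.lift φ (zpowersHom Γ γ) (by
    intro g
    apply MonoidHom.ext
    intro a
    simp only [MonoidHom.comp_apply, MulEquiv.coe_toMonoidHom, MulAut.conj_apply]
    exact key (Multiplicative.toAdd g) a _ (MulAut.conjNormal_apply _ _))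
  have hker : π.ker ≤ σ.ker := by
    rintro ⟨a, n⟩ h
    rw [MonoidHom.mem_ker] at h ⊢
    have h3 : (a : E) * t ^ (Multiplicative.toAdd n) = 1 := by
      have : π ⟨a, n⟩ = (a : E) * t ^ (Multiplicative.toAdd n) := rfl
      rw [← this, h]
    have h4 : t ^ (Multiplicative.toAdd n) = ((a⁻¹ : A) : E) := by
      rw [Subgroup.coe_inv]; exact eq_inv_of_mul_eq_one_right h3
    have h5 := h2 (Multiplicative.toAdd n) (by rw [h4]; exact (a⁻¹).2)
    have h6 : (⟨t ^ (Multiplicative.toAdd n), by rw [h4]; exact (a⁻¹).2⟩ : A) = a⁻¹ := Subtype.ext h4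
    rw [h6] at h5
    show φ a * γ ^ (Multiplicative.toAdd n) = 1
    rw [← h5, map_inv, mul_inv_cancel]
  refine ⟨MonoidHom.liftOfSurjective π hπ ⟨σ, hker⟩, ?_, ?_⟩
  · intro a
    have e1 : (a : E) = π (SemidirectProduct.inl a) := by simp [π]
    rw [e1]
    have := MonoidHom.liftOfRightInverse_comp_apply π _ (Function.rightInverse_surjInv hπ) ⟨σ, hker⟩
      (SemidirectProduct.inl a)
    refine this.trans ?_
    simp [σ]
  · have e1 : t = π (SemidirectProduct.inr (Multiplicative.ofAdd 1)) := by simp [π]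
    conv_lhs => rw [e1]
    have := MonoidHom.liftOfRightInverse_comp_apply π _ (Function.rightInverse_surjInv hπ) ⟨σ, hker⟩
      (SemidirectProduct.inr (Multiplicative.ofAdd 1))
    refine this.trans ?_
    simp [σ]

end Cfsg.Agent.H140.KGV
end

-- part: H140/KGV/Mono
section
/-!
# Monomial representations on functions on subsets of `ZMod n`
-/

set_option autoImplicit false
set_option linter.unusedSectionVars false

namespace Cfsg.Agent.H140.KGV

open Cfsg Finset Polynomial Cfsg.Agent.H644.KGV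

section Mono

variable {n : ℕ} [NeZero n] (q : ℕ) (hq : q.Coprime n) (P : ZMod n → Prop)
  (hP : ∀ j, P ((q : ZMod n) * j) ↔ P j)

/-- Multiplication by `q` on the subset `P`. -/
noncomputable def mulq : Equiv.Perm {j : ZMod n // P j} :=
  Equiv.ofBijective (fun j => ⟨(q : ZMod n) * j, (hP j).2 j.2⟩) (by
    classical
    have : Finite {j : ZMod n // P j} := inferInstance
    apply Finite.injective_iff_bijective.1
    intro j j' h
    have h1 : (q : ZMod n) * j = (q : ZMod n) * j' := congrArg Subtype.val h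
    have hu : IsUnit (q : ZMod n) := (ZMod.isUnit_iff_coprime q n).2 hq
    exact Subtype.ext (hu.mul_left_cancel h1))

theorem mulq_apply (j : {j : ZMod n // P j}) : ((mulq q hq P hP j : {j // P j}) : ZMod n) = q * j := rfl

theorem mulq_pow_apply (m : ℕ) (j : {j : ZMod n // P j}) :
    (((mulq q hq P hP ^ m) j : {j // P j}) : ZMod n) = (q : ZMod n) ^ m * j := by
  induction m generalizing j with
  | zero => simp
  | succ m ih =>
    rw [pow_succ', Equiv.Perm.mul_apply, mulq_apply, ih, pow_succ']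
    ring

/-- Diagonal operators. -/
noncomputable def dop : ℂˣ →* (({j : ZMod n // P j} → ℂ) ≃ₗ[ℂ] ({j : ZMod n // P j} → ℂ)) where
  toFun := fun v =>
    { toFun := fun f j => (v : ℂ) ^ (j : ZMod n).val * f j
      map_add' := fun f g => by ext j; simp [mul_add]
      map_smul' := fun c f => by ext j; simp; ring
      invFun := fun f j => ((v⁻¹ : ℂˣ) : ℂ) ^ (j : ZMod n).val * f j
      left_inv := fun f => by
        ext j
        simp only
        rw [← mul_assoc, ← mul_pow, Units.inv_mul, one_pow, one_mul]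
      right_inv := fun f => by
        ext j
        simp only
        rw [← mul_assoc, ← mul_pow, Units.mul_inv, one_pow, one_mul] }
  map_one' := by
    apply LinearEquiv.ext
    intro f
    ext j
    show ((1 : ℂˣ) : ℂ) ^ _ * f j = f j
    simp
  map_mul' := fun v w => by
    apply LinearEquiv.ext
    intro f
    ext j
    show ((v * w : ℂˣ) : ℂ) ^ _ * f j = (v : ℂ) ^ _ * ((w : ℂ) ^ _ * f j)
    rw [Units.val_mul, mul_pow, mul_assoc]

theorem dop_apply (v : ℂˣ) (f : {j : ZMod n // P j} → ℂ) (j : {j : ZMod n // P j}) :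
    dop P v f j = (v : ℂ) ^ (j : ZMod n).val * f j := rfl

theorem pow_val_mul {v : ℂˣ} (hv : v ^ n = 1) (m : ℕ) (j : ZMod n) :
    (v : ℂ) ^ ((m : ZMod n) * j).val = (v : ℂ) ^ (m * j.val) := by
  have h1 : ((m : ZMod n) * j).val = (m * j.val) % n := by
    rw [ZMod.val_mul, ZMod.val_natCast, Nat.mod_mul_mod]
  have h2 : (v : ℂ) ^ n = 1 := by rw [← Units.val_pow_eq_pow_val, hv, Units.val_one]
  rw [h1]
  conv_rhs => rw [← Nat.mod_add_div (m * j.val) n, pow_add, pow_mul, h2, one_pow, mul_one]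

/-- The operator of `t`. -/
noncomputable def top (β : ℂˣ) : (({j : ZMod n // P j} → ℂ) ≃ₗ[ℂ] ({j : ZMod n // P j} → ℂ)) :=
  dop P β * LinearEquiv.funCongrLeft ℂ ℂ (mulq q hq P hP)

theorem top_apply (β : ℂˣ) (f : {j : ZMod n // P j} → ℂ) (j : {j : ZMod n // P j}) :
    top q hq P hP β f j = (β : ℂ) ^ (j : ZMod n).val * f (mulq q hq P hP j) := rfl

theorem top_pow_apply {β : ℂˣ} (hβ : β ^ n = 1) (m : ℕ) (f : {j : ZMod n // P j} → ℂ)
    (j : {j : ZMod n // P j}) :
    (top q hq P hP β ^ m) f j =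
      (β : ℂ) ^ ((∑ i ∈ range m, q ^ i) * (j : ZMod n).val) * f ((mulq q hq P hP ^ m) j) := by
  induction m generalizing j with
  | zero => simp
  | succ m ih =>
    rw [pow_succ', LinearEquiv.mul_apply, top_apply, ih, mulq_apply, pow_mul,
      pow_right_comm, pow_val_mul hβ, ← pow_mul, ← mul_assoc, ← pow_add]
    congr 2
    rw [sum_range_succ']
    simp only [pow_succ, ← sum_mul, pow_zero]
    ring

theorem top_conj {β w : ℂˣ} (hw : w ^ n = 1) :
    top q hq P hP β * dop P w * (top q hq P hP β)⁻¹ = dop P (w ^ q) := by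
  rw [mul_inv_eq_iff_eq_mul]
  apply LinearEquiv.ext
  intro f
  ext j
  rw [LinearEquiv.mul_apply, LinearEquiv.mul_apply, top_apply, dop_apply, dop_apply, top_apply,
    mulq_apply, pow_val_mul hw, Units.val_pow_eq_pow_val, ← pow_mul]
  ring

end Mono

end Cfsg.Agent.H140.KGV
end

-- part: H140/KGV/Theta
section
/-!
# The graded representation of a semilinear group
-/

set_option autoImplicit false
set_option linter.unusedSectionVars false

namespace Cfsg.Agent.H140.KGV

open Cfsg Finset Polynomial Cfsg.Agent.H644.KGV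

universe u

section Setup

variable {E : Type u} [Group E] {A : Subgroup E} [hA : A.Normal] {t : E} {lam : A →* ℂˣ} {q : ℕ}

theorem lam_conj_pow (hlam : ∀ (a b : A), (b : E) = t * a * t⁻¹ → lam b = lam a ^ q) (m : ℕ) :
    ∀ (a b : A), (b : E) = t ^ m * a * (t ^ m)⁻¹ → lam b = lam a ^ (q ^ m) := by
  induction m with
  | zero =>
    intro a b hb
    have : b = a := Subtype.ext (by simpa using hb)
    rw [this]; simp
  | succ m ih =>
    intro a b hb
    have hm : t ^ m * a * (t ^ m)⁻¹ ∈ A := hA.conj_mem _ a.2 _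
    rw [hlam ⟨_, hm⟩ b (by
      rw [hb, pow_succ']
      simp only [_root_.mul_inv_rev, mul_assoc]), ih a ⟨_, hm⟩ rfl, ← pow_mul, pow_succ]

theorem lam_pow_sub_one (hlam : ∀ (a b : A), (b : E) = t * a * t⁻¹ → lam b = lam a ^ q)
    (hq : 0 < q) {s : ℕ} (hts : t ^ s ∈ A) (a : A) : lam a ^ (q ^ s - 1) = 1 := by
  have h1 := lam_conj_pow hlam s a (⟨t ^ s, hts⟩ * a * ⟨t ^ s, hts⟩⁻¹) rfl
  rw [map_mul, map_mul, map_inv, mul_comm (lam ⟨t ^ s, hts⟩), mul_assoc, mul_inv_cancel, mul_one] at h1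
  have h2 : 1 ≤ q ^ s := Nat.one_le_pow _ _ hq
  have h3 : lam a ^ (q ^ s) = lam a ^ (q ^ s - 1) * lam a := by
    rw [← pow_succ, Nat.sub_add_cancel h2]
  rw [h3] at h1
  exact (mul_eq_right.1 h1.symm)

/-- The element `β`. -/
theorem exists_beta (hlam : ∀ (a b : A), (b : E) = t * a * t⁻¹ → lam b = lam a ^ q)
    (hq : 2 ≤ q) {s : ℕ} (hs : 0 < s) (hts : t ^ s ∈ A) :
    ∃ β : ℂˣ, β ^ (∑ i ∈ range s, q ^ i) = lam ⟨t ^ s, hts⟩ ∧ β ^ (q ^ s - 1) = 1 := by
  have hpos : 0 < ∑ i ∈ range s, q ^ i := by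
    apply Finset.sum_pos
    · intro i _
      positivity
    · exact ⟨0, by simpa using hs⟩
  obtain ⟨z, hz⟩ := IsAlgClosed.exists_pow_nat_eq ((lam ⟨t ^ s, hts⟩ : ℂˣ) : ℂ) hpos
  have hz0 : z ≠ 0 := by
    rintro rfl
    rw [zero_pow hpos.ne'] at hz
    exact (lam ⟨t ^ s, hts⟩).ne_zero hz.symm
  have h1 : (Units.mk0 z hz0) ^ (∑ i ∈ range s, q ^ i) = lam ⟨t ^ s, hts⟩ := by
    apply Units.ext
    rw [Units.val_pow_eq_pow_val]
    exact hz
  refine ⟨Units.mk0 z hz0, h1, ?_⟩
  have h2 : q ^ s - 1 = (∑ i ∈ range s, q ^ i) * (q - 1) := by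
    have := Nat.geomSum_eq hq s
    rw [this, Nat.div_mul_cancel (Nat.sub_one_dvd_pow_sub_one q s)]
  rw [h2, pow_mul, h1]
  -- `t` centralizes `t ^ s`
  have h3 := hlam ⟨t ^ s, hts⟩ ⟨t ^ s, hts⟩ (by
    show t ^ s = t * t ^ s * t⁻¹
    rw [← pow_succ', pow_succ, mul_inv_cancel_right])
  have h4 : lam ⟨t ^ s, hts⟩ ^ q = lam ⟨t ^ s, hts⟩ ^ (q - 1) * lam ⟨t ^ s, hts⟩ := by
    rw [← pow_succ, Nat.sub_add_cancel (by omega)]
  rw [h4] at h3
  exact mul_eq_right.1 h3.symm

variable {n : ℕ} [NeZero n]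

/-- **The representation.** -/
theorem exists_rep (hlam : ∀ (a b : A), (b : E) = t * a * t⁻¹ → lam b = lam a ^ q)
    (hq : 2 ≤ q) {s : ℕ} (hs : 0 < s) (hts : t ^ s ∈ A) (hn : n = q ^ s - 1)
    (hqn : q.Coprime n) (hAt : A ⊔ Subgroup.zpowers t = ⊤)
    (hord : ∀ m : ℤ, t ^ m ∈ A → (s : ℤ) ∣ m)
    {β : ℂˣ} (hβ : β ^ (∑ i ∈ range s, q ^ i) = lam ⟨t ^ s, hts⟩) (hβn : β ^ n = 1)
    (P : ZMod n → Prop) (hP : ∀ j, P ((q : ZMod n) * j) ↔ P j) :
    ∃ ρ : E →* (({j : ZMod n // P j} → ℂ) ≃ₗ[ℂ] ({j : ZMod n // P j} → ℂ)),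
      ∀ (x : A) (i : ℕ) (f : {j : ZMod n // P j} → ℂ) (j : {j : ZMod n // P j}),
        ρ (x * t ^ i) f j = ((lam x * β ^ (∑ m ∈ range i, q ^ m) : ℂˣ) : ℂ) ^ (j : ZMod n).val *
          f ((mulq q hqn P hP ^ i) j) := by
  have hlamn : ∀ x : A, lam x ^ n = 1 := fun x => by
    rw [hn]; exact lam_pow_sub_one hlam (by omega) hts x
  have hqs : (q : ZMod n) ^ s = 1 := by
    have h1 : ((q ^ s : ℕ) : ZMod n) = ((n + 1 : ℕ) : ZMod n) := by
      rw [hn, Nat.sub_add_cancel (Nat.one_le_pow _ _ (by omega))]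
    push_cast at h1
    rw [h1, ZMod.natCast_self, zero_add]
  have hγs : top q hqn P hP β ^ s = dop P (lam ⟨t ^ s, hts⟩) := by
    apply LinearEquiv.ext
    intro f
    ext j
    rw [top_pow_apply _ _ _ _ hβn, dop_apply, pow_mul, ← hβ, Units.val_pow_eq_pow_val]
    congr 2
    apply Subtype.ext
    rw [mulq_pow_apply, hqs, one_mul]
  obtain ⟨ρ, h1, h2⟩ := exists_ext A t hAt ((dop P).comp lam) (top q hqn P hP β)
    (fun a b hb => by
      rw [MonoidHom.comp_apply, MonoidHom.comp_apply, hlam a b hb, top_conj _ _ _ _ (hlamn a)])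
    (fun m hm => by
      obtain ⟨k, rfl⟩ := hord m hm
      have e1 : (⟨t ^ ((s : ℤ) * k), hm⟩ : A) = (⟨t ^ s, hts⟩ : A) ^ k := by
        apply Subtype.ext
        rw [Subgroup.coe_zpow]
        exact (zpow_mul t s k).trans (by rw [zpow_natCast])
      rw [e1, map_zpow, zpow_mul, zpow_natCast, hγs]
      rfl)
  refine ⟨ρ, fun x i f j => ?_⟩
  rw [map_mul, map_pow, h1, h2, LinearEquiv.mul_apply, MonoidHom.comp_apply, dop_apply,
    top_pow_apply _ _ _ _ hβn, Units.val_mul, mul_pow, mul_assoc]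
  congr 1
  rw [Units.val_pow_eq_pow_val, pow_mul]

/-- The character. -/
theorem isCharacter_rep {J : Type} [Fintype J] [DecidableEq J] (ρ : E →* ((J → ℂ) ≃ₗ[ℂ] (J → ℂ))) :
    IsCharacter E (fun g => ∑ j, ρ g (Pi.single j 1) j) := by
  let M : E →* Matrix J J ℂ :=
    { toFun := fun g => LinearMap.toMatrix' ((ρ g : (J → ℂ) ≃ₗ[ℂ] (J → ℂ)) : (J → ℂ) →ₗ[ℂ] (J → ℂ))
      map_one' := by
        rw [map_one]
        exact LinearMap.toMatrix'_one
      map_mul' := fun g h => by
        rw [map_mul]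
        exact LinearMap.toMatrix'_comp _ _ }
  have h := S0148.isCharacter_of_matrix M
  have e : (fun g => (M g).trace) = fun g => ∑ j, ρ g (Pi.single j 1) j := by
    funext g
    rw [Matrix.trace]
    refine Finset.sum_congr rfl fun j _ => ?_
    rw [Matrix.diag_apply]
    show LinearMap.toMatrix' _ j j = _
    rw [LinearMap.toMatrix'_apply]
    rfl
  rwa [e] at h

end Setup

end Cfsg.Agent.H140.KGV
end

-- part: H140/KGV/Arith
section
/-!
# Arithmetic for the semilinear case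
-/

set_option autoImplicit false

namespace Cfsg.Agent.H140.KGV

open Finset

universe u

/-- Multiplication by `u` permutes the residues modulo `r`. -/
theorem image_mul_mod {r u : ℕ} (hr : 0 < r) (hu : u.Coprime r) :
    (range r).image (fun m => (u * m) % r) = range r := by
  apply Finset.eq_of_subset_of_card_le
  · intro x hx
    obtain ⟨m, -, rfl⟩ := Finset.mem_image.1 hx
    exact Finset.mem_range.2 (Nat.mod_lt _ hr)
  · rw [Finset.card_image_of_injOn]
    intro a ha b hb hab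
    have h1 : u * a ≡ u * b [MOD r] := hab
    have h2 : a ≡ b [MOD r] := Nat.ModEq.cancel_left_of_coprime (by
      rw [Nat.gcd_comm]; exact hu) h1
    exact Nat.ModEq.eq_of_lt_of_lt h2 (by simpa using ha) (by simpa using hb)

theorem sum_pow_mul {R : Type*} [CommSemiring R] {r u : ℕ} (hr : 0 < r) (hu : u.Coprime r) (g : R)
    (hg : g ^ r = 1) : ∑ m ∈ range r, g ^ (u * m) = ∑ m ∈ range r, g ^ m := by
  have h1 : ∀ k, g ^ k = g ^ (k % r) := fun k => by
    conv_lhs => rw [← Nat.mod_add_div k r, pow_add, pow_mul, hg, one_pow, mul_one]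
  conv_rhs => rw [← image_mul_mod hr hu]
  rw [Finset.sum_image]
  · exact Finset.sum_congr rfl fun m _ => h1 _
  · intro a ha b hb hab
    have h1 : u * a ≡ u * b [MOD r] := hab
    have h2 : a ≡ b [MOD r] := Nat.ModEq.cancel_left_of_coprime (by
      rw [Nat.gcd_comm]; exact hu) h1
    exact Nat.ModEq.eq_of_lt_of_lt h2 (by simpa using ha) (by simpa using hb)

section

variable {q s r v : ℕ}

theorem geom_dvd (hq : 2 ≤ q) (hr : r ∣ s) (hr0 : 0 < r) (hs : 0 < s) :
    (q ^ (s / r) - 1) * ∑ m ∈ range r, (q ^ (s / r)) ^ m = q ^ s - 1 ∧ 0 < q ^ (s / r) - 1 := by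
  have hd : 0 < s / r := Nat.div_pos (Nat.le_of_dvd hs hr) hr0
  have h2 : 2 ≤ q ^ (s / r) := hq.trans (Nat.le_self_pow hd.ne' q)
  constructor
  · rw [Nat.geomSum_eq h2, Nat.mul_div_cancel' (Nat.sub_one_dvd_pow_sub_one _ _), ← pow_mul,
      Nat.div_mul_cancel hr]
  · omega

theorem geom_eq (hq : 2 ≤ q) (hr : r ∣ s) (hr0 : 0 < r) (hs : 0 < s) :
    (q ^ s - 1) / (q ^ (s / r) - 1) = ∑ m ∈ range r, (q ^ (s / r)) ^ m := by
  obtain ⟨h1, h2⟩ := geom_dvd hq hr hr0 hs
  rw [← h1, Nat.mul_div_cancel_left _ h2]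

theorem q_pow_s (hq : 2 ≤ q) : (q : ZMod (q ^ s - 1)) ^ s = 1 := by
  have h1 : ((q ^ s : ℕ) : ZMod (q ^ s - 1)) = ((q ^ s - 1 + 1 : ℕ) : ZMod (q ^ s - 1)) := by
    rw [Nat.sub_add_cancel (Nat.one_le_pow _ _ (by omega))]
  push_cast at h1
  rw [h1, ZMod.natCast_self, zero_add]

/-- (A2) -/
theorem pow_geom {G : Type*} [Group G] (hq : 2 ≤ q) (hs : 0 < s) (hr : r ∣ s) (hr0 : 0 < r)
    (hu : v.Coprime r) {c : G} (hc : c ^ (q ^ s - 1) = 1) :
    c ^ (∑ m ∈ range r, q ^ (s / r * v * m)) = c ^ ((q ^ s - 1) / (q ^ (s / r) - 1)) := by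
  rw [geom_eq hq hr hr0 hs]
  have h1 : ((∑ m ∈ range r, q ^ (s / r * v * m) : ℕ) : ZMod (q ^ s - 1)) =
      ((∑ m ∈ range r, (q ^ (s / r)) ^ m : ℕ) : ZMod (q ^ s - 1)) := by
    push_cast
    rw [← sum_pow_mul hr0 hu ((q : ZMod (q ^ s - 1)) ^ (s / r)) (by
      rw [← pow_mul, Nat.div_mul_cancel hr, q_pow_s hq])]
    refine Finset.sum_congr rfl fun m _ => ?_
    rw [← pow_mul, mul_assoc]
  have h2 := (ZMod.natCast_eq_natCast_iff _ _ _).1 h1
  exact pow_eq_pow_iff_modEq.2 (h2.of_dvd (orderOf_dvd_of_pow_eq_one hc))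

/-- The fixed points of multiplication by `q ^ (s / r * v)`. -/
theorem fixed_iff (hq : 2 ≤ q) (hs : 0 < s) (hr : r ∣ s) (hr0 : 0 < r)
    (hu : v.Coprime r) (j : ZMod (q ^ s - 1)) :
    (q : ZMod (q ^ s - 1)) ^ (s / r * v) * j = j ↔ (q : ZMod (q ^ s - 1)) ^ (s / r) * j = j := by
  have hgr : ((q : ZMod (q ^ s - 1)) ^ (s / r)) ^ r = 1 := by
    rw [← pow_mul, Nat.div_mul_cancel hr, q_pow_s hq]
  rw [pow_mul]
  constructor
  · intro h
    have h1 : Function.IsPeriodicPt (fun x => (q : ZMod (q ^ s - 1)) ^ (s / r) * x) v j := by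
      show (fun x => (q : ZMod (q ^ s - 1)) ^ (s / r) * x)^[v] j = j
      rw [mul_left_iterate]
      exact h
    have h2 : Function.IsPeriodicPt (fun x => (q : ZMod (q ^ s - 1)) ^ (s / r) * x) r j := by
      show (fun x => (q : ZMod (q ^ s - 1)) ^ (s / r) * x)^[r] j = j
      rw [mul_left_iterate]
      show ((q : ZMod (q ^ s - 1)) ^ (s / r)) ^ r * j = j
      rw [hgr, one_mul]
    have h3 := h1.gcd h2
    rw [hu] at h3
    exact h3
  · intro h
    have h1 : Function.IsPeriodicPt (fun x => (q : ZMod (q ^ s - 1)) ^ (s / r) * x) 1 j := h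
    have h2 := h1.const_mul v
    rw [mul_one] at h2
    have h3 : (fun x => (q : ZMod (q ^ s - 1)) ^ (s / r) * x)^[v] j = j := h2
    rw [mul_left_iterate] at h3
    exact h3

/-- (A1) -/
theorem fixed_sum (hq : 2 ≤ q) (hs : 0 < s) (hr : r ∣ s) (hr0 : 0 < r)
    (hu : v.Coprime r) [NeZero (q ^ s - 1)] (G : ZMod (q ^ s - 1) → ℂ) :
    ∑ j : ZMod (q ^ s - 1), (if (q : ZMod (q ^ s - 1)) ^ (s / r * v) * j = j then G j else 0) =
      ∑ j ∈ range (q ^ (s / r) - 1),
        G (((q ^ s - 1) / (q ^ (s / r) - 1) * j : ℕ) : ZMod (q ^ s - 1)) := by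
  obtain ⟨h1, h2⟩ := geom_dvd hq hr hr0 hs
  have hn : 0 < q ^ s - 1 := Nat.pos_of_ne_zero (NeZero.ne _)
  set e := (q ^ s - 1) / (q ^ (s / r) - 1) with he
  have hed : e * (q ^ (s / r) - 1) = q ^ s - 1 :=
    Nat.div_mul_cancel (Dvd.intro _ h1)
  have he0 : 0 < e := Nat.pos_of_mul_pos_right (by rw [hed]; exact hn) 
  rw [← Finset.sum_filter]
  symm
  refine Finset.sum_nbij (fun j : ℕ => ((e * j : ℕ) : ZMod (q ^ s - 1))) ?_ ?_ ?_ ?_
  · intro j hj
    rw [Finset.mem_filter]
    refine ⟨Finset.mem_univ _, ?_⟩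
    rw [fixed_iff hq hs hr hr0 hu]
    have h3 : ((q ^ (s / r) - 1 : ℕ) : ZMod (q ^ s - 1)) * ((e * j : ℕ) : ZMod (q ^ s - 1)) = 0 := by
      rw [← Nat.cast_mul, ← mul_assoc, mul_comm (q ^ (s / r) - 1), hed, Nat.cast_mul,
        ZMod.natCast_self, zero_mul]
    have h4 : ((q ^ (s / r) - 1 : ℕ) : ZMod (q ^ s - 1)) = (q : ZMod (q ^ s - 1)) ^ (s / r) - 1 := by
      rw [Nat.cast_sub (Nat.one_le_pow _ _ (by omega))]
      push_cast
      rfl
    rw [h4, sub_mul, one_mul, sub_eq_zero] at h3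
    exact h3
  · intro a ha b hb hab
    have ha' : a < q ^ (s / r) - 1 := by simpa using ha
    have hb' : b < q ^ (s / r) - 1 := by simpa using hb
    have h3 := (ZMod.natCast_eq_natCast_iff _ _ _).1 hab
    have h4 := Nat.ModEq.eq_of_lt_of_lt h3 (by rw [← hed]; exact Nat.mul_lt_mul_of_pos_left ha' he0)
      (by rw [← hed]; exact Nat.mul_lt_mul_of_pos_left hb' he0)
    exact Nat.eq_of_mul_eq_mul_left he0 h4
  · intro j hj
    have hj1 := (Finset.mem_filter.1 hj).2
    rw [fixed_iff hq hs hr hr0 hu] at hj1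
    have h4 : ((q ^ (s / r) - 1 : ℕ) : ZMod (q ^ s - 1)) = (q : ZMod (q ^ s - 1)) ^ (s / r) - 1 := by
      rw [Nat.cast_sub (Nat.one_le_pow _ _ (by omega))]
      push_cast
      rfl
    have h5 : (((q ^ (s / r) - 1) * j.val : ℕ) : ZMod (q ^ s - 1)) = 0 := by
      rw [Nat.cast_mul, h4, ZMod.natCast_zmod_val, sub_mul, one_mul, hj1, sub_self]
    have h6 := (ZMod.natCast_eq_zero_iff _ _).1 h5
    have h8 : (q ^ (s / r) - 1) * e ∣ (q ^ (s / r) - 1) * j.val := by
      rw [mul_comm _ e, hed]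
      exact h6
    obtain ⟨w, hw⟩ := Nat.dvd_of_mul_dvd_mul_left h2 h8
    refine ⟨w, ?_, ?_⟩
    · have h7 : e * w < e * (q ^ (s / r) - 1) := by
        rw [hed, ← hw]
        exact ZMod.val_lt j
      simpa using Nat.lt_of_mul_lt_mul_left h7
    · show ((e * w : ℕ) : ZMod (q ^ s - 1)) = j
      rw [← hw, ZMod.natCast_zmod_val]
  · intro j _
    rfl

end

end Cfsg.Agent.H140.KGV
end

-- part: H140/KGV/Trace
section
/-!
# The Gauss sum part of the semilinear case
-/

set_option autoImplicit false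
set_option linter.unusedSectionVars false

namespace Cfsg.Agent.H140.KGV

open Cfsg Finset Polynomial Cfsg.Agent.H644.KGV

universe u

/-- Trace of a monomial operator. -/
theorem trace_mono {n : ℕ} [NeZero n] (q : ℕ) (hq : q.Coprime n) (P : ZMod n → Prop)
    [DecidablePred P] (hP : ∀ j, P ((q : ZMod n) * j) ↔ P j) (i : ℕ) (c : ℂ)
    (φ : ({j : ZMod n // P j} → ℂ) → ({j : ZMod n // P j} → ℂ))
    (hφ : ∀ f j, φ f j = c ^ (j : ZMod n).val * f ((mulq q hq P hP ^ i) j)) :
    ∑ j : {j // P j}, φ (Pi.single j 1) j =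
      ∑ j : ZMod n, if P j then (if (q : ZMod n) ^ i * j = j then c ^ j.val else 0) else 0 := by
  have h1 : ∀ j : {j : ZMod n // P j}, φ (Pi.single j 1) j =
      if (q : ZMod n) ^ i * (j : ZMod n) = j then c ^ (j : ZMod n).val else 0 := by
    intro j
    rw [hφ, Pi.single_apply]
    by_cases h : (q : ZMod n) ^ i * (j : ZMod n) = j
    · have h2 : (mulq q hq P hP ^ i) j = j := Subtype.ext (by rw [mulq_pow_apply, h])
      rw [if_pos h2, if_pos h, mul_one]
    · have h2 : ¬ (mulq q hq P hP ^ i) j = j := fun h2 => h (by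
        rw [← mulq_pow_apply q hq P hP, h2])
      rw [if_neg h2, if_neg h, mul_zero]
  rw [Finset.sum_congr rfl fun j _ => h1 j]
  have h2 := Finset.sum_filter P (fun j : ZMod n => if (q : ZMod n) ^ i * j = j then c ^ j.val else 0)
    (s := Finset.univ)
  rw [← h2]
  exact (Finset.sum_subtype (p := P) (Finset.univ.filter P) (fun x => by simp)
    (fun j : ZMod n => if (q : ZMod n) ^ i * j = j then c ^ j.val else 0)).symm

section

variable {E : Type u} [Group E] {A : Subgroup E} [hA : A.Normal] {t : E} {lam : A →* ℂˣ} {q : ℕ}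

theorem lam_pow_eq (hlam : ∀ (a b : A), (b : E) = t * a * t⁻¹ → lam b = lam a ^ q)
    (hq : 2 ≤ q) {s : ℕ} (hs : 0 < s) (hts : t ^ s ∈ A)
    (hqn : q.Coprime (q ^ s - 1)) (hAt : A ⊔ Subgroup.zpowers t = ⊤)
    (hord : ∀ m : ℤ, t ^ m ∈ A → (s : ℤ) ∣ m)
    {β : ℂˣ} (hβ : β ^ (∑ i ∈ range s, q ^ i) = lam ⟨t ^ s, hts⟩) (hβn : β ^ (q ^ s - 1) = 1)
    {r v : ℕ} (hr : r ∣ s) (hr0 : 0 < r) (hu : v.Coprime r) (x : A)
    (hh : ((x : E) * t ^ (s / r * v)) ^ r ∈ A) :
    lam ⟨((x : E) * t ^ (s / r * v)) ^ r, hh⟩ =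
      (lam x * β ^ (∑ m ∈ range (s / r * v), q ^ m)) ^ ((q ^ s - 1) / (q ^ (s / r) - 1)) := by
  have hn0 : NeZero (q ^ s - 1) := ⟨by
    have : q ^ 1 ≤ q ^ s := Nat.pow_le_pow_right (by omega) hs
    rw [pow_one] at this
    omega⟩
  have hlamn : ∀ x : A, lam x ^ (q ^ s - 1) = 1 := fun x => lam_pow_sub_one hlam (by omega) hts x
  set i := s / r * v with hi
  set c := lam x * β ^ (∑ m ∈ range i, q ^ m) with hc
  have hcn : c ^ (q ^ s - 1) = 1 := by
    rw [hc, mul_pow, hlamn, one_mul, ← pow_mul, mul_comm, pow_mul, hβn, one_pow]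
  have hqi : (q ^ i).Coprime (q ^ s - 1) := Nat.Coprime.pow_left _ hqn
  obtain ⟨ρ, hρ⟩ := exists_rep hlam hq hs hts rfl hqn hAt hord hβ hβn (fun _ => True)
    (fun _ => Iff.rfl)
  have h1 : ρ (x * t ^ i) = top (q ^ i) hqi (fun _ => True) (fun _ => Iff.rfl) c := by
    apply LinearEquiv.ext
    intro f
    funext j
    rw [hρ, top_apply]
    congr 2
    apply Subtype.ext
    rw [mulq_pow_apply, mulq_apply, Nat.cast_pow]
  have h2 : (ρ ((x * t ^ i) ^ r)) (fun _ => 1) ⟨1, trivial⟩ =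
      (c : ℂ) ^ ((∑ l ∈ range r, (q ^ i) ^ l) * (1 : ZMod (q ^ s - 1)).val) := by
    rw [map_pow, h1, top_pow_apply _ _ _ _ hcn, mul_one]
  have h3 : (ρ ((x * t ^ i) ^ r)) (fun _ => 1) ⟨1, trivial⟩ =
      ((lam ⟨((x : E) * t ^ i) ^ r, hh⟩ : ℂˣ) : ℂ) ^ (1 : ZMod (q ^ s - 1)).val := by
    have h4 := hρ ⟨((x : E) * t ^ i) ^ r, hh⟩ 0 (fun _ => 1) ⟨1, trivial⟩
    rw [pow_zero, mul_one, range_zero, sum_empty, pow_zero, mul_one, mul_one] at h4
    exact h4
  have hval : (1 : ZMod (q ^ s - 1)).val = 1 % (q ^ s - 1) := ZMod.val_one_eq_one_mod _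
  have hmod : ∀ y : ℂˣ, y ^ (q ^ s - 1) = 1 → y ^ (1 % (q ^ s - 1)) = y := by
    intro y hy
    conv_rhs => rw [← pow_one y]
    exact pow_eq_pow_iff_modEq.2 ((Nat.mod_modEq 1 _).of_dvd (orderOf_dvd_of_pow_eq_one hy))
  rw [h2, hval] at h3
  have h5 : (c ^ (∑ l ∈ range r, (q ^ i) ^ l)) ^ (1 % (q ^ s - 1)) =
      lam ⟨((x : E) * t ^ i) ^ r, hh⟩ ^ (1 % (q ^ s - 1)) := by
    apply Units.ext
    rw [← pow_mul]
    push_cast
    exact h3
  rw [hmod _ (hlamn _), hmod _ (by rw [← pow_mul, mul_comm, pow_mul, hcn, one_pow])] at h5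
  rw [← h5, ← pow_geom hq hs hr hr0 hu hcn]
  congr 1
  exact Finset.sum_congr rfl fun l _ => by rw [← pow_mul]

theorem T_mod {p : ℕ} [Fact p.Prime] {T : ℕ → ℕ → ZMod p} (hT : GaussSys p T) {F : ℕ} (hF : 1 ≤ F)
    (j : ℕ) : T F (j % (p ^ F - 1)) = T F j := by
  have h : ∀ k i, T F (i + (p ^ F - 1) * k) = T F i := by
    intro k
    induction k with
    | zero => intro i; simp
    | succ k ih =>
      intro i
      rw [mul_add, mul_one, ← add_assoc, hT.per _ _ hF, ih]
  conv_rhs => rw [← Nat.mod_add_div j (p ^ F - 1)]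
  rw [h]

theorem T_frob {p : ℕ} [Fact p.Prime] {T : ℕ → ℕ → ZMod p} (hT : GaussSys p T) {F : ℕ} (hF : 1 ≤ F)
    (f j : ℕ) : T F (p ^ f * j) = T F j := by
  induction f generalizing j with
  | zero => simp
  | succ f ih => rw [pow_succ, mul_assoc, ih, hT.frob _ _ hF]

theorem pow_mem' [Finite E] (h : E) : h ^ orderOf (QuotientGroup.mk' A h) ∈ A :=
  (H174.KGV.pow_mem_iff h _).2 dvd_rfl

theorem uint_theta (p : ℕ) [Fact p.Prime] (T : ℕ → ℕ → ZMod p) (hT : GaussSys p T)
    (E : Type u) [Group E] [Finite E] (A : Subgroup E) [A.Normal] (t : E) (f : ℕ) (lam : A →* ℂˣ)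
    (hf : 1 ≤ f) (hAt : A ⊔ Subgroup.zpowers t = ⊤)
    (hlam : ∀ (a b : A), (b : E) = t * a * t⁻¹ → lam b = lam a ^ (p ^ f)) :
    UInt p E (fun a h => PG p T (f * (A.index / orderOf (QuotientGroup.mk' A h)))
      ((orderOf (QuotientGroup.mk' A h) : ZMod p) * a)
      (lam ⟨h ^ orderOf (QuotientGroup.mk' A h), pow_mem' h⟩ : ℂ)) := by
  classical
  set q := p ^ f with hqdef
  have hp := (Fact.out : p.Prime).two_le
  have hq : 2 ≤ q := hp.trans (Nat.le_self_pow (by omega) p)
  set s := A.index with hsdef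
  have hs : 0 < s := Nat.pos_of_ne_zero Subgroup.index_ne_zero_of_finite
  have hts : t ^ s ∈ A := A.pow_index_mem t
  have hqs : q ≤ q ^ s := Nat.le_self_pow hs.ne' q
  have hn0 : NeZero (q ^ s - 1) := ⟨by omega⟩
  have hqn : q.Coprime (q ^ s - 1) := by
    have h2 : (q ^ s).Coprime (q ^ s - 1) :=
      (Nat.coprime_self_sub_right (by omega)).2 (Nat.coprime_one_right _)
    exact Nat.Coprime.coprime_dvd_left (dvd_pow_self q hs.ne') h2
  have hord : ∀ m : ℤ, t ^ m ∈ A → (s : ℤ) ∣ m := by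
    intro m hm
    rw [← QuotientGroup.eq_one_iff] at hm
    have h1 : (QuotientGroup.mk' A t) ^ m = 1 := by rw [← map_zpow]; exact hm
    rw [← orderOf_dvd_iff_zpow_eq_one, H174.KGV.orderOf_mk_t hAt] at h1
    exact h1
  obtain ⟨β, hβ, hβn⟩ := exists_beta hlam hq hs hts
  have hfs : 1 ≤ f * s := Nat.mul_pos hf hs
  have hpfs : p ^ (f * s) = q ^ s := by rw [hqdef, ← pow_mul]
  have hTq : ∀ j : ZMod (q ^ s - 1), T (f * s) ((q : ZMod (q ^ s - 1)) * j).val = T (f * s) j.val := by
    intro j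
    rw [ZMod.val_mul, ZMod.val_natCast, Nat.mod_mul_mod]
    have h1 := T_mod hT hfs (q * j.val)
    rw [hpfs] at h1
    rw [h1]
    exact T_frob hT hfs f _
  choose ρ hρ using fun k : ZMod p => exists_rep hlam hq hs hts rfl hqn hAt hord hβ hβn
    (fun j => T (f * s) j.val = k) (fun j => by rw [hTq])
  refine ⟨fun k h => -∑ j, ρ k h (Pi.single j 1) j, fun k => ?_, fun a ha h => ?_⟩
  · have h1 := isCharacter_rep (ρ k)
    exact OddOrderCharacters.VChar.gen_neg (OddOrderCharacters.VChar.gen_of_char h1)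
  obtain ⟨m, -, x, hx⟩ := H174.KGV.exists_repr hAt h
  obtain ⟨r, hr⟩ : ∃ r, r = orderOf (QuotientGroup.mk' A h) := ⟨_, rfl⟩
  have hrs : r ∣ s := hr ▸ H174.KGV.order_dvd_index h
  have hr0 : 0 < r := Nat.pos_of_dvd_of_pos hrs hs
  -- the decomposition `h = x t ^ (s / r * v)`
  obtain ⟨v, hv, hmv⟩ : ∃ v : ℕ, v.Coprime r ∧ m = s / r * v := by
    have h1 : r = s / Nat.gcd s m := by
      rw [hr, hsdef, ← H174.KGV.orderOf_mk_t hAt, ← orderOf_pow, ← map_pow]
      congr 1
      rw [hx, map_mul]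
      have h2 : QuotientGroup.mk' A (x : E) = 1 := (QuotientGroup.eq_one_iff _).2 x.2
      rw [h2, one_mul]
    have hg : 0 < Nat.gcd s m := Nat.gcd_pos_of_pos_left _ hs
    have h3 : s / r = Nat.gcd s m := by
      rw [h1]
      exact Nat.div_div_self (Nat.gcd_dvd_left s m) hs.ne'
    refine ⟨m / Nat.gcd s m, ?_, ?_⟩
    · rw [h1]
      exact (Nat.coprime_div_gcd_div_gcd hg).symm
    · rw [h3, Nat.mul_div_cancel' (Nat.gcd_dvd_right s m)]
  subst hmv
  dsimp only
  have hb : ∀ hh : h ^ orderOf (QuotientGroup.mk' A h) ∈ A,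
      lam ⟨h ^ orderOf (QuotientGroup.mk' A h), hh⟩ =
      (lam x * β ^ (∑ m ∈ range (s / r * v), q ^ m)) ^ ((q ^ s - 1) / (q ^ (s / r) - 1)) := by
    rw [← hr, hx]
    intro hh
    exact lam_pow_eq hlam hq hs hts hqn hAt hord hβ hβn hrs hr0 hv x hh
  rw [hb]
  rw [← hr]
  set c := lam x * β ^ (∑ m ∈ range (s / r * v), q ^ m) with hc
  have hcn : c ^ (q ^ s - 1) = 1 := by
    rw [hc, mul_pow, lam_pow_sub_one hlam (by omega) hts, one_mul, ← pow_mul, mul_comm, pow_mul,
      hβn, one_pow]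
  have htr : ∀ k : ZMod p, ∑ j, ρ k h (Pi.single j 1) j =
      ∑ j : ZMod (q ^ s - 1), if T (f * s) j.val = k then
        (if (q : ZMod (q ^ s - 1)) ^ (s / r * v) * j = j then (c : ℂ) ^ j.val else 0) else 0 := by
    intro k
    exact trace_mono q hqn (fun j => T (f * s) j.val = k) (fun j => by rw [hTq]) (s / r * v)
      (c : ℂ) (fun φ => ρ k h φ) (fun φ j => by
        rw [hx]
        exact hρ k x _ φ j)
  have h1 : ∑ k : ZMod p, (ZMod.stdAddChar (a * k) : ℂ) * -∑ j, ρ k h (Pi.single j 1) j =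
      -∑ j : ZMod (q ^ s - 1), (if (q : ZMod (q ^ s - 1)) ^ (s / r * v) * j = j then
        (ZMod.stdAddChar (a * T (f * s) j.val) : ℂ) * (c : ℂ) ^ j.val else 0) := by
    simp_rw [htr, mul_neg, Finset.sum_neg_distrib, Finset.mul_sum]
    rw [Finset.sum_comm]
    congr 1
    refine Finset.sum_congr rfl fun j _ => ?_
    rw [Finset.sum_eq_single (T (f * s) j.val)]
    · rw [if_pos rfl, mul_ite, mul_zero]
    · intro k _ hk
      rw [if_neg (Ne.symm hk), mul_zero]
    · intro h2
      exact absurd (Finset.mem_univ _) h2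
  rw [h1, fixed_sum hq hs hrs hr0 hv, PG]
  have hpq : p ^ (f * (s / r)) = q ^ (s / r) := by rw [hqdef, ← pow_mul]
  rw [hpq]
  congr 1
  refine Finset.sum_congr rfl fun j _ => ?_
  have h2 := T_mod hT hfs ((q ^ s - 1) / (q ^ (s / r) - 1) * j)
  have h3 := hT.sub (f * (s / r)) r j (Nat.mul_pos hf (Nat.div_pos (Nat.le_of_dvd hs hrs) hr0)) hr0
  have h4 : f * (s / r) * r = f * s := by rw [mul_assoc, Nat.div_mul_cancel hrs]
  rw [h4, hpfs, hpq] at h3
  rw [hpfs, h3] at h2
  rw [ZMod.val_natCast, h2]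
  congr 1
  · congr 1
    ring
  · have h5 : (c : ℂ) ^ (q ^ s - 1) = 1 := by rw [← Units.val_pow_eq_pow_val, hcn, Units.val_one]
    rw [Units.val_pow_eq_pow_val, ← pow_mul]
    conv_lhs => rw [← Nat.mod_add_div ((q ^ s - 1) / (q ^ (s / r) - 1) * j) (q ^ s - 1), pow_add,
      pow_mul (c : ℂ) (q ^ s - 1), h5, one_pow, mul_one]

end

end Cfsg.Agent.H140.KGV
end

-- part: H174/KGV/SemiCst
section
/-!
# SEMI, step S4: uniform integrality of the constant of a semilinear induced character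
-/

set_option autoImplicit false

universe u

namespace Cfsg.Agent.H174.KGV

open Cfsg Finset Polynomial Cfsg.Agent.H644.KGV Cfsg.Agent.H688.KGV

/-- The period of the multiplication by `q` on `ZMod s`. -/
theorem exists_period {s q : ℕ} (hqs : q.Coprime s) [NeZero s] (j : ZMod s) :
    ∃ e, 0 < e ∧ (q : ZMod s) ^ e * j = j ∧
      ∀ i i', i < e → i' < e → (q : ZMod s) ^ i * j = (q : ZMod s) ^ i' * j → i = i' := by
  classical
  have hu : IsUnit (q : ZMod s) := (ZMod.isUnit_iff_coprime q s).mpr hqs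
  have hex : ∃ n, 0 < n ∧ (q : ZMod s) ^ n * j = j := by
    obtain ⟨u, hu⟩ := hu
    refine ⟨orderOf u, orderOf_pos u, ?_⟩
    rw [← hu, ← Units.val_pow_eq_pow_val, pow_orderOf_eq_one, Units.val_one, one_mul]
  have hspec := Nat.find_spec hex
  refine ⟨Nat.find hex, hspec.1, hspec.2, ?_⟩
  have key : ∀ i i', i < i' → i' < Nat.find hex → (q : ZMod s) ^ i * j ≠ (q : ZMod s) ^ i' * j := by
    intro i i' h1 h2 h3
    have h4 : (q : ZMod s) ^ i' * j = (q : ZMod s) ^ i * ((q : ZMod s) ^ (i' - i) * j) := by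
      rw [← mul_assoc, ← pow_add, Nat.add_sub_cancel' h1.le]
    rw [h4] at h3
    have h5 := (hu.pow i).mul_left_cancel h3
    exact Nat.find_min hex (m := i' - i) (by omega) ⟨by omega, h5.symm⟩
  intro i i' h1 h2 h3
  rcases lt_trichotomy i i' with h | h | h
  · exact absurd h3 (key i i' h h2)
  · exact h
  · exact absurd h3.symm (key i' i h h1)

section

variable {E : Type u} [Group E]

theorem uint_orbits (p : ℕ) [Fact p.Prime] (T : ℕ → ℕ → ZMod p) (f : ℕ) (F : ZMod p → ℂ → ℂ)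
    (hF : ∀ a, a ≠ 0 → OrbFun p T f a (F a)) {s : ℕ} [NeZero s] (hqs : (p ^ f).Coprime s)
    (θ : E →* ℂˣ) (hθ : ∀ h, θ h ^ s = 1) :
    ∀ (n : ℕ) (J : Finset (ZMod s)), J.card = n → (∀ j ∈ J, ((p ^ f : ℕ) : ZMod s) * j ∈ J) →
      UInt p E (fun a h => ∏ j ∈ J, F a ((θ h : ℂ) ^ j.val)) := by
  classical
  intro n
  induction n using Nat.strong_induction_on with
  | _ n ih =>
    intro J hJn hJ
    rcases J.eq_empty_or_nonempty with rfl | ⟨j0, hj0⟩
    · simpa using (UI.one (p := p) (G := E))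
    obtain ⟨e, he, hper, hinj⟩ := exists_period hqs j0
    set q : ℕ := p ^ f with hq
    have hu : IsUnit (q : ZMod s) := (ZMod.isUnit_iff_coprime q s).mpr hqs
    set O : Finset (ZMod s) := (range e).image (fun i => (q : ZMod s) ^ i * j0) with hO
    have hOJ : O ⊆ J := by
      intro x hx
      obtain ⟨i, -, rfl⟩ := Finset.mem_image.mp hx
      clear hx
      induction i with
      | zero => simpa using hj0
      | succ i ihi =>
        have := hJ _ ihi
        rwa [← mul_assoc, ← pow_succ'] at this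
    have hj0O : j0 ∈ O := Finset.mem_image.mpr ⟨0, Finset.mem_range.mpr he, by simp⟩
    have hcl : ∀ j ∈ J \ O, (q : ZMod s) * j ∈ J \ O := by
      intro j hj
      rw [Finset.mem_sdiff] at hj ⊢
      refine ⟨hJ j hj.1, fun h => hj.2 ?_⟩
      obtain ⟨i, hi, hi2⟩ := Finset.mem_image.mp h
      rw [Finset.mem_range] at hi
      rcases Nat.eq_zero_or_pos i with rfl | hipos
      · refine Finset.mem_image.mpr ⟨e - 1, Finset.mem_range.mpr (by omega), ?_⟩
        refine hu.mul_left_cancel ?_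
        rw [← hi2, ← mul_assoc, ← pow_succ', Nat.sub_add_cancel he, hper, pow_zero, one_mul]
      · refine Finset.mem_image.mpr ⟨i - 1, Finset.mem_range.mpr (by omega), ?_⟩
        refine hu.mul_left_cancel ?_
        rw [← hi2, ← mul_assoc, ← pow_succ', Nat.sub_add_cancel hipos]
    have hcard : (J \ O).card < n := by
      rw [← hJn]
      refine Finset.card_lt_card ⟨Finset.sdiff_subset, fun h => ?_⟩
      exact (Finset.mem_sdiff.mp (h (hOJ hj0O))).2 hj0O
    have h1 := ih _ hcard (J \ O) rfl hcl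
    have h2 := UI.PG_lin_units (p := p) T (f * e) 1 (θ ^ j0.val)
    refine UI.congr (UI.mul h1 h2) fun a ha h => ?_
    rw [← Finset.prod_sdiff hOJ]
    congr 1
    rw [hO, Finset.prod_image (fun i hi i' hi' h => hinj i i' (Finset.mem_range.mp hi)
      (Finset.mem_range.mp hi') h)]
    have hθs : (θ h : ℂ) ^ s = 1 := by
      rw [← Units.val_pow_eq_pow_val, hθ, Units.val_one]
    have hpow : ∀ m : ℕ, (θ h : ℂ) ^ m = (θ h : ℂ) ^ (m : ZMod s).val := by
      intro m
      conv_lhs => rw [← Nat.mod_add_div m s, pow_add, pow_mul, hθs, one_pow, mul_one]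
      rw [ZMod.val_natCast]
    have hval : ∀ i, (θ h : ℂ) ^ ((q : ZMod s) ^ i * j0).val =
        ((θ h : ℂ) ^ j0.val) ^ (p ^ (f * i)) := by
      intro i
      rw [← pow_mul, hpow (j0.val * p ^ (f * i)), pow_mul p f i]
      congr 2
      push_cast
      rw [ZMod.natCast_val, ZMod.cast_id', id, mul_comm, hq]
      push_cast
      rfl
    have hz : ((θ h : ℂ) ^ j0.val) ^ (p ^ (f * e) - 1) = 1 := by
      have h3 : ((θ h : ℂ) ^ j0.val) ^ (p ^ (f * e)) = (θ h : ℂ) ^ j0.val := by
        rw [← hval e, hper]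
      have h4 : (θ h : ℂ) ^ j0.val ≠ 0 := pow_ne_zero _ (Units.ne_zero _)
      refine mul_left_cancel₀ h4 ?_
      rw [← pow_succ', Nat.sub_add_cancel (Nat.one_le_pow _ _ (Fact.out : p.Prime).pos), h3,
        mul_one]
    have h5 := hF a ha e ((θ h : ℂ) ^ j0.val) he hz
    rw [one_mul, MonoidHom.pow_apply, Units.val_pow_eq_pow_val, ← h5]
    exact Finset.prod_congr rfl fun i _ => by rw [hval i]

variable {A : Subgroup E} [A.Normal] {t : E}

/-- A linear character with kernel `A`. -/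
theorem exists_theta [Finite E] (ht : A ⊔ Subgroup.zpowers t = ⊤) :
    ∃ θ : E →* ℂˣ, ∀ h, orderOf (θ h) = orderOf (QuotientGroup.mk' A h) := by
  have hs : 0 < A.index := Nat.pos_of_ne_zero Subgroup.index_ne_zero_of_finite
  have : NeZero A.index := ⟨hs.ne'⟩
  have hcyc : IsCyclic (E ⧸ A) := by
    refine isCyclic_of_orderOf_eq_card (QuotientGroup.mk' A t) ?_
    rw [orderOf_mk_t ht]
    rfl
  have hcard : Nat.card (E ⧸ A) = Nat.card (rootsOfUnity A.index ℂ) := by
    rw [Complex.card_rootsOfUnity]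
    rfl
  have hc2 : IsCyclic (rootsOfUnity A.index ℂ) := rootsOfUnity.isCyclic ℂ A.index
  let φ : E ⧸ A ≃* rootsOfUnity A.index ℂ := mulEquivOfCyclicCardEq hcard
  refine ⟨(((rootsOfUnity A.index ℂ).subtype.comp φ.toMonoidHom).comp (QuotientGroup.mk' A)),
    fun h => ?_⟩
  show orderOf (((rootsOfUnity A.index ℂ).subtype.comp φ.toMonoidHom) (QuotientGroup.mk' A h)) = _
  refine orderOf_injective _ ?_ _
  exact (Subtype.val_injective).comp φ.injective

theorem prod_range_mul_periodic (f : ℕ → ℂ) (d : ℕ)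
    (hf : ∀ j, f (j + d) = f j) (k : ℕ) :
    ∏ j ∈ range (d * k), f j = (∏ j ∈ range d, f j) ^ k := by
  have hf' : ∀ k j, f (d * k + j) = f j := by
    intro k
    induction k with
    | zero => intro j; rw [mul_zero, zero_add]
    | succ k ih =>
      intro j
      rw [← ih j, ← hf (d * k + j)]
      congr 1
      ring
  induction k with
  | zero => simp
  | succ k ih =>
    rw [mul_add, mul_one, Finset.prod_range_add, ih, pow_succ]
    congr 1
    exact Finset.prod_congr rfl fun j _ => hf' k j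

/-- **S4** -/
theorem uint_cst [Finite E] (ht : A ⊔ Subgroup.zpowers t = ⊤) (p : ℕ) [Fact p.Prime]
    (T : ℕ → ℕ → ZMod p) (f : ℕ) (hp : (p ^ f).Coprime (Nat.card E)) (F : ZMod p → ℂ → ℂ)
    (hF : ∀ a, a ≠ 0 → OrbFun p T f a (F a)) :
    UInt p E (fun a h => ∏ i ∈ range (A.index / orderOf (QuotientGroup.mk' A h)),
      ∏ z ∈ nthRootsFinset (orderOf (QuotientGroup.mk' A h)) (1 : ℂ), F a (z ^ ((p ^ f) ^ i))) := by
  classical
  have hs : 0 < A.index := Nat.pos_of_ne_zero Subgroup.index_ne_zero_of_finite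
  have : NeZero A.index := ⟨hs.ne'⟩
  obtain ⟨θ, hθ⟩ := exists_theta ht
  have hθs : ∀ h, θ h ^ A.index = 1 := by
    intro h
    rw [← orderOf_dvd_iff_pow_eq_one, hθ]
    exact order_dvd_index h
  refine UI.congr (uint_orbits p T f F hF (coprime_index hp) θ hθs _ Finset.univ rfl
    (fun _ _ => Finset.mem_univ _)) fun a ha h => ?_
  set r := orderOf (QuotientGroup.mk' A h) with hr
  have hrs : r ∣ A.index := order_dvd_index h
  have hr0 : 0 < r := Nat.pos_of_dvd_of_pos hrs hs
  have hqr : (p ^ f).Coprime r := coprime_order hp h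
  have h1 : ∀ i, ∏ z ∈ nthRootsFinset r (1 : ℂ), F a (z ^ ((p ^ f) ^ i)) =
      ∏ z ∈ nthRootsFinset r (1 : ℂ), F a z := fun i =>
    prod_nthRoots_one_pow hr0 (Nat.Coprime.pow_left i hqr) (F a)
  rw [Finset.prod_congr rfl fun i _ => h1 i, Finset.prod_const, Finset.card_range]
  -- the roots of unity as powers of `θ h`
  have hprim : IsPrimitiveRoot (θ h : ℂ) r := by
    rw [IsPrimitiveRoot.coe_units_iff, hr, ← hθ h]
    exact IsPrimitiveRoot.orderOf _
  have h2 : ∏ z ∈ nthRootsFinset r (1 : ℂ), F a z = ∏ j ∈ range r, F a ((θ h : ℂ) ^ j) := by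
    have h3 : nthRootsFinset r (1 : ℂ) = (range r).image (fun j => (θ h : ℂ) ^ j) := by
      ext z
      rw [mem_nthRootsFinset hr0, Finset.mem_image]
      constructor
      · intro hz
        have : NeZero r := ⟨hr0.ne'⟩
        obtain ⟨i, hi, hi2⟩ := hprim.eq_pow_of_pow_eq_one hz
        exact ⟨i, Finset.mem_range.mpr hi, hi2⟩
      · rintro ⟨i, -, rfl⟩
        rw [← pow_mul, mul_comm, pow_mul, hprim.pow_eq_one, one_pow]
    rw [h3, Finset.prod_image]
    intro i hi i' hi' h4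
    exact hprim.pow_inj (Finset.mem_range.mp hi) (Finset.mem_range.mp hi') h4
  rw [h2, ← prod_range_mul_periodic (fun j => F a ((θ h : ℂ) ^ j)) r (by
    intro j
    show F a _ = F a _
    rw [pow_add, hprim.pow_eq_one, mul_one]), Nat.mul_div_cancel' hrs]
  symm
  refine Finset.prod_bij (fun (j : ZMod A.index) _ => j.val) ?_ ?_ ?_ ?_
  · intro j _
    exact Finset.mem_range.mpr (ZMod.val_lt j)
  · intro j _ j' _ h5
    exact ZMod.val_injective _ h5
  · intro j hj
    exact ⟨(j : ZMod A.index), Finset.mem_univ _,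
      by rw [ZMod.val_natCast, Nat.mod_eq_of_lt (Finset.mem_range.mp hj)]⟩
  · intro j _
    rfl

end

end Cfsg.Agent.H174.KGV
end

-- part: H140/KGV/Semi
section
/-!
# The semilinear case
-/

set_option autoImplicit false
set_option linter.unusedSectionVars false

namespace Cfsg.Agent.H140.KGV

open Cfsg Finset Polynomial Cfsg.Agent.H644.KGV

universe u

/-- The product formula (STAR). -/
def Star : Prop := ∀ (p : ℕ) [Fact p.Prime] (T : ℕ → ℕ → ZMod p), GaussSys p T →
  ∀ (F : ℂ → ℂ) (f : ℕ) (a : ZMod p), 1 ≤ f → a ≠ 0 → OrbFun p T f a F →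
  ∀ (ℓ k : ℕ), ℓ.Prime → ℓ ∣ p ^ f - 1 → ∀ b : ℂ, b ^ (p ^ f - 1) = 1 →
    ∏ z ∈ nthRootsFinset (ℓ ^ k) b, F z =
      PG p T f (((ℓ ^ k : ℕ) : ZMod p) * a) b * ∏ z ∈ nthRootsFinset (ℓ ^ k) (1 : ℂ), F z

theorem orbFun_mul {p : ℕ} [NeZero p] {T : ℕ → ℕ → ZMod p} {f : ℕ} {a : ZMod p} {F : ℂ → ℂ}
    (hF : OrbFun p T f a F) {m : ℕ} (hm : 1 ≤ m) :
    OrbFun p T (f * m) a (fun z => ∏ i ∈ range m, F (z ^ ((p ^ f) ^ i))) := by
  intro e z he hz
  have h1 := hF (m * e) z (Nat.mul_pos hm he) (by rw [← mul_assoc]; exact hz)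
  rw [mul_assoc, ← h1]
  clear h1 hz he
  induction e with
  | zero => simp
  | succ e ih =>
    rw [Finset.prod_range_succ, ih, mul_add, mul_one, Finset.prod_range_add]
    congr 1
    refine Finset.prod_congr rfl fun i _ => ?_
    rw [← pow_mul]
    congr 2
    rw [← pow_mul, ← pow_add]
    congr 1
    ring

theorem nthRootsFinset_one' (b : ℂ) : nthRootsFinset 1 b = {b} := by
  ext z
  rw [mem_nthRootsFinset one_pos, pow_one, Finset.mem_singleton]

theorem star_one {p : ℕ} [Fact p.Prime] {T : ℕ → ℕ → ZMod p} (hT : GaussSys p T)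
    {F : ℂ → ℂ} {f : ℕ} {a : ZMod p} (hf : 1 ≤ f) (ha : a ≠ 0) (hF : OrbFun p T f a F) {b : ℂ}
    (hb : b ^ (p ^ f - 1) = 1) :
    ∏ z ∈ nthRootsFinset 1 b, F z =
      PG p T f (((1 : ℕ) : ZMod p) * a) b * ∏ z ∈ nthRootsFinset 1 (1 : ℂ), F z := by
  have h1 : ∀ c : ℂ, c ^ (p ^ f - 1) = 1 → F c = PG p T f a c := by
    intro c hc
    have h2 := hF 1 c le_rfl (by rw [mul_one]; exact hc)
    simpa using h2
  rw [nthRootsFinset_one', nthRootsFinset_one', Finset.prod_singleton, Finset.prod_singleton,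
    h1 b hb, h1 1 (one_pow _), hT.one f a hf ha, mul_one, Nat.cast_one, one_mul]

theorem semilinear_of_star (hS : Star) : Semilinear.{u} := by
  intro p _ T hT E _ _ _ A _ t ℓ k f lam hpE hℓ hidx hf hℓf hAt hlam F hF
  have hp := (Fact.out : p.Prime)
  have hq : (p ^ f).Coprime (Nat.card E) := Nat.Coprime.pow_left _ ((Nat.Prime.coprime_iff_not_dvd hp).2 hpE)
  have h1 := uint_theta p T hT E A t f lam hf hAt hlam
  have h2 := H174.KGV.uint_cst hAt p T f hq F hF
  refine H688.KGV.UI.congr (H688.KGV.UI.mul h1 h2) fun a ha h => ?_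
  obtain ⟨r, hr⟩ : ∃ r, orderOf (QuotientGroup.mk' A h) = r := ⟨_, rfl⟩
  have hh : h ^ r ∈ A := hr ▸ pow_mem' h
  rw [H174.KGV.kap_ind hAt hlam hq (F a) h r hr hh]
  have hb : ∀ hh' : h ^ orderOf (QuotientGroup.mk' A h) ∈ A,
      lam ⟨h ^ orderOf (QuotientGroup.mk' A h), hh'⟩ = lam ⟨h ^ r, hh⟩ := by
    subst hr
    intro _
    rfl
  rw [hb, hr]
  have hfix := H174.KGV.b_fixed hAt hlam h r hr hh
  have hrs : r ∣ A.index := hr ▸ H174.KGV.order_dvd_index h
  have hs : 0 < A.index := Nat.pos_of_ne_zero Subgroup.index_ne_zero_of_finite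
  have hr0 : 0 < r := Nat.pos_of_dvd_of_pos hrs hs
  have hm : 1 ≤ A.index / r := Nat.div_pos (Nat.le_of_dvd hs hrs) hr0
  set b := lam ⟨h ^ r, hh⟩ with hbdef
  have hb1 : (b : ℂ) ^ (p ^ (f * (A.index / r)) - 1) = 1 := by
    have h3 : b ^ ((p ^ f) ^ (A.index / r) - 1) = 1 := by
      have h4 : 1 ≤ (p ^ f) ^ (A.index / r) := Nat.one_le_pow _ _ (pow_pos hp.pos _)
      rw [← Nat.sub_add_cancel h4, pow_succ] at hfix
      exact mul_eq_right.1 hfix
    rw [pow_mul, ← Units.val_pow_eq_pow_val, h3, Units.val_one]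
  have hOrb := orbFun_mul (hF a ha) hm
  have hfm : 1 ≤ f * (A.index / r) := Nat.mul_pos hf hm
  rw [Finset.prod_comm, Finset.prod_comm (s := range (A.index / r)) (t := nthRootsFinset r (1 : ℂ))]
  obtain ⟨j, hj, hrj⟩ := (Nat.dvd_prime_pow hℓ).1 (hidx ▸ hrs)
  by_cases hr1 : r = 1
  · subst hr1
    exact star_one hT hfm ha hOrb hb1
  · have hs1 : A.index ≠ 1 := by
      intro h3
      rw [h3] at hrs
      exact hr1 (Nat.dvd_one.1 hrs)
    have hdvd : ℓ ∣ p ^ (f * (A.index / r)) - 1 := by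
      rw [pow_mul]
      exact (hℓf hs1).trans (Nat.sub_one_dvd_pow_sub_one _ _)
    have h3 := hS p T hT _ _ a hfm ha hOrb ℓ j hℓ hdvd (b : ℂ) hb1
    rw [← hrj] at h3
    exact h3

/-- **The semilinear case (task SEMI).** -/
theorem semilinear : Semilinear.{u} := by
  refine semilinear_of_star fun p _ T hT F f a hf ha hF ℓ k hℓ hd b hb => ?_
  rw [H719.KGV.star hT hℓ ha k hf hd hF hb, Nat.cast_pow]

end Cfsg.Agent.H140.KGV
end
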